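/-
Preliminaries for the affine Horrocks theorem: idempotent matrices and monic polynomials over a local ring.
-/
import Mathlib.RingTheory.AdjoinRoot
import Mathlib.RingTheory.Nakayama
import Mathlib.LinearAlgebra.FreeModule.PID
import Mathlib.RingTheory.LocalRing.Module
import Mathlib.RingTheory.LocalRing.ResidueField.Basic
import Mathlib.LinearAlgebra.Matrix.ToLin
import Mathlib.Algebra.Polynomial.Lifts
import Mathlib.RingTheory.Polynomial.Basic

set_option autoImplicit false
set_option linter.style.haveILetI false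
set_option backward.isDefEq.respectTransparency false

universe u v w

open Polynomial Matrix

noncomputable section

namespace Groth.Agent.AffHorrocks

variable {ι : Type w} [Fintype ι] [DecidableEq ι]

/-- An idempotent matrix with a basis of its range splits. -/
theorem exists_split_of_basis {S : Type u} [CommRing S] {n : ℕ} {e : Matrix ι ι S} (he : e * e = e)
    (b : Module.Basis (Fin n) S (LinearMap.range e.mulVecLin)) :
    ∃ (u : Matrix ι (Fin n) S) (v : Matrix (Fin n) ι S), u * v = e ∧ v * u = 1 := by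
  let π : (ι → S) →ₗ[S] LinearMap.range e.mulVecLin := e.mulVecLin.rangeRestrict
  have hπ : ∀ x : LinearMap.range e.mulVecLin, π (x : ι → S) = x := by
    rintro ⟨_, y, rfl⟩
    refine Subtype.ext ?_
    show e *ᵥ (e *ᵥ y) = e *ᵥ y
    rw [mulVec_mulVec, he]
  refine ⟨Matrix.of fun i j => (b j : ι → S) i, Matrix.of fun j i => b.repr (π (Pi.single i 1)) j, ?_, ?_⟩
  · ext i l
    have h := congrArg (fun x : LinearMap.range e.mulVecLin => (x : ι → S) i) (b.sum_repr (π (Pi.single l 1)))
    simp only [Submodule.coe_sum, Finset.sum_apply, Submodule.coe_smul, Pi.smul_apply, smul_eq_mul] at h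
    rw [show (π (Pi.single l 1) : ι → S) = e *ᵥ Pi.single l 1 from rfl, mulVec_single_one] at h
    rw [Matrix.col_apply] at h
    simpa [Matrix.mul_apply, mul_comm] using h
  · ext k j
    have h : π (b j : ι → S) = ∑ i, (b j : ι → S) i • π (Pi.single i 1) := by
      conv_lhs => rw [pi_eq_sum_univ' (b j : ι → S)]
      simp only [map_sum, map_smul]
    rw [hπ] at h
    have h2 := congrArg (fun x => b.repr x k) h
    simp only [map_sum, map_smul, Finsupp.coe_finsetSum, Finset.sum_apply, Finsupp.smul_apply, smul_eq_mul,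
      b.repr_self, Finsupp.single_apply] at h2
    rw [Matrix.mul_apply, Matrix.one_apply]
    simp only [Matrix.of_apply]
    rw [Finset.sum_congr rfl (fun i _ => mul_comm _ _), ← h2]
    by_cases hkj : k = j <;> simp [hkj, Ne.symm]

/-- Over a principal ideal domain every idempotent matrix splits. -/
theorem exists_split_of_pid {S : Type u} [CommRing S] [IsDomain S] [IsPrincipalIdealRing S] {e : Matrix ι ι S}
    (he : e * e = e) : ∃ (n : ℕ) (u : Matrix ι (Fin n) S) (v : Matrix (Fin n) ι S), u * v = e ∧ v * u = 1 := by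
  obtain ⟨n, b⟩ := Submodule.basisOfPid (Pi.basisFun S ι) (LinearMap.range e.mulVecLin)
  exact ⟨n, exists_split_of_basis he b⟩

/-- Over a local ring every idempotent matrix splits. -/
theorem exists_split_of_isLocalRing {S : Type u} [CommRing S] [IsLocalRing S] {e : Matrix ι ι S}
    (he : e * e = e) : ∃ (n : ℕ) (u : Matrix ι (Fin n) S) (v : Matrix (Fin n) ι S), u * v = e ∧ v * u = 1 := by
  haveI : Module.Finite S (LinearMap.range e.mulVecLin) := Module.Finite.range _
  haveI : Module.Projective S (LinearMap.range e.mulVecLin) := by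
    refine Module.Projective.of_split (LinearMap.range e.mulVecLin).subtype e.mulVecLin.rangeRestrict
      (LinearMap.ext ?_)
    rintro ⟨_, y, rfl⟩
    refine Subtype.ext ?_
    show e *ᵥ (e *ᵥ y) = e *ᵥ y
    rw [mulVec_mulVec, he]
  haveI : Module.Free S (LinearMap.range e.mulVecLin) := Module.free_of_flat_of_isLocalRing
  exact ⟨_, exists_split_of_basis he (Module.finBasis S _)⟩

theorem card_le_of_mul_eq_smul_one {S : Type u} [CommRing S] [IsDomain S] {n r : ℕ} {a : S} (ha : a ≠ 0)
    {P : Matrix (Fin r) (Fin n) S} {Q : Matrix (Fin n) (Fin r) S} (h : Q * P = a • 1) : n ≤ r := by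
  have hi : Function.Injective P.mulVecLin := fun x y hxy => by
    have := congrArg (Q.mulVec) hxy
    simp only [mulVecLin_apply, mulVec_mulVec, h, smul_mulVec, one_mulVec] at this
    exact funext fun i => mul_left_cancel₀ ha (by simpa using congrFun this i)
  simpa using LinearMap.finrank_le_finrank_of_injective hi

section Local

variable {A : Type u} [CommRing A] [IsLocalRing A]

/-- reduction of polynomials modulo the maximal ideal -/
abbrev red (A : Type u) [CommRing A] [IsLocalRing A] : A[X] →+* (IsLocalRing.ResidueField A)[X] :=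
  mapRingHom (IsLocalRing.residue A)

theorem red_surjective : Function.Surjective (red A) :=
  Polynomial.map_surjective _ IsLocalRing.residue_surjective

theorem mem_map_C_of_red_eq_zero {p : A[X]} (hp : red A p = 0) : p ∈ (IsLocalRing.maximalIdeal A).map C :=
  Ideal.mem_map_C_iff.2 fun n => by
    have h := congrArg (fun q => coeff q n) hp
    simp only [coe_mapRingHom, coeff_map, coeff_zero] at h
    exact (IsLocalRing.residue_eq_zero_iff _).1 h

theorem red_monic {f : A[X]} (hf : f.Monic) : (red A f).Monic := hf.map _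

/-- An ideal with a monic element and everything modulo the maximal ideal is everything. -/
theorem eq_top_of_monic_mem (J : Ideal A[X]) {g a : A[X]} (hg : g.Monic) (hgJ : g ∈ J) (haJ : a ∈ J)
    (ha : red A a = 1) : J = ⊤ := by
  haveI := hg.finite_adjoinRoot
  let N : Submodule A (AdjoinRoot g) := (J.restrictScalars A).map (AdjoinRoot.mkₐ g).toLinearMap
  have h1 : (⊤ : Submodule A (AdjoinRoot g)) ≤ N ⊔ IsLocalRing.maximalIdeal A • ⊤ := by
    intro x _
    obtain ⟨h, rfl⟩ := AdjoinRoot.mk_surjective x
    rw [show AdjoinRoot.mk g h = AdjoinRoot.mk g (h * a) + AdjoinRoot.mk g (h * (1 - a)) by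
      rw [← map_add]; ring_nf]
    refine Submodule.add_mem_sup ⟨h * a, J.mul_mem_left h haJ, rfl⟩ ?_
    rw [Ideal.smul_top_eq_map]
    have h2 : h * (1 - a) ∈ (IsLocalRing.maximalIdeal A).map C :=
      Ideal.mul_mem_left _ h (mem_map_C_of_red_eq_zero (by rw [map_sub, map_one, ha, sub_self]))
    have h3 := Ideal.mem_map_of_mem (AdjoinRoot.mk g) h2
    rw [Ideal.map_map] at h3
    exact h3
  have h4 := Submodule.le_of_le_smul_of_le_jacobson_bot Module.Finite.fg_top
    (IsLocalRing.maximalIdeal_le_jacobson ⊥) h1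
  obtain ⟨z, hz, hz1⟩ := h4 (Submodule.mem_top (x := (1 : AdjoinRoot g)))
  rw [Ideal.eq_top_iff_one]
  have h5 : g ∣ z - 1 := AdjoinRoot.mk_eq_mk.1 (hz1.trans (map_one (AdjoinRoot.mk g)).symm)
  obtain ⟨q, hq⟩ := h5
  rw [show (1 : A[X]) = z - g * q by rw [← hq]; ring]
  exact J.sub_mem hz (J.mul_mem_right q hgJ)

/-- Adding a multiple of a monic polynomial that vanishes modulo the maximal ideal makes a polynomial of large
reduced degree monic up to a unit. -/
theorem exists_monic_adjust {f g : A[X]} (hf : f.Monic) (hg0 : red A g ≠ 0)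
    (hdeg : f.natDegree ≤ (red A g).natDegree) :
    ∃ (c : A[X]) (z : A), red A c = 0 ∧ (C z * (g + f * c)).Monic := by
  nontriviality A
  let φ := IsLocalRing.residue A
  have hgd : g = g %ₘ f + f * (g /ₘ f) := (modByMonic_add_div g f).symm
  have hq : red A (g /ₘ f) ≠ 0 := by
    intro h0
    have h1 : red A g = red A (g %ₘ f) := by rw [hgd, map_add, map_mul, h0, mul_zero, add_zero, ← hgd]
    have h2 : (red A g).degree < f.degree := by
      rw [h1]; exact lt_of_le_of_lt degree_map_le (degree_modByMonic_lt g hf)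
    rw [degree_eq_natDegree hg0, degree_eq_natDegree hf.ne_zero] at h2
    exact absurd hdeg (not_le.2 (by exact_mod_cast h2))
  obtain ⟨q₀, hq₀, hq₀d⟩ := mem_lifts_and_degree_eq (f := φ)
    (p := red A (g /ₘ f)) ⟨g /ₘ f, rfl⟩
  have hq₀n : q₀.natDegree = (red A (g /ₘ f)).natDegree := natDegree_eq_natDegree hq₀d
  have hl : φ q₀.leadingCoeff ≠ 0 := by
    rw [leadingCoeff, hq₀n, ← coeff_map, hq₀]
    exact mt leadingCoeff_eq_zero.1 hq
  have hu : IsUnit q₀.leadingCoeff := (IsLocalRing.residue_ne_zero_iff_isUnit _).1 hl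
  obtain ⟨z, hz⟩ := hu.exists_left_inv
  refine ⟨q₀ - g /ₘ f, z, by rw [map_sub, show red A q₀ = red A (g /ₘ f) from hq₀, sub_self], ?_⟩
  have h3 : g + f * (q₀ - g /ₘ f) = f * q₀ + g %ₘ f := by
    conv_lhs => enter [1]; rw [hgd]
    ring
  have hq₀0 : q₀ ≠ 0 := fun h => hl (by rw [h, leadingCoeff_zero, map_zero])
  have h4 : (g %ₘ f).degree < (f * q₀).degree := by
    refine lt_of_lt_of_le (degree_modByMonic_lt g hf) ?_
    rw [mul_comm f, degree_mul' (by rw [hf.leadingCoeff, mul_one]; exact leadingCoeff_ne_zero.2 hq₀0)]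
    exact le_add_of_nonneg_left (zero_le_degree_iff.2 hq₀0)
  rw [h3, Monic, leadingCoeff_mul' (by
    rw [leadingCoeff_add_of_degree_lt' h4, leadingCoeff_monic_mul hf, leadingCoeff_C, hz]
    exact one_ne_zero), leadingCoeff_add_of_degree_lt' h4, leadingCoeff_monic_mul hf, leadingCoeff_C, hz]

end Local

end Groth.Agent.AffHorrocks
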