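/-
Horrocks' theorem over a local ring: a projective module over `A[X]` that is free after inverting a monic
polynomial is free (Roberts' argument, written with idempotent matrices).
-/
import Groth.Agent.AffineHorrocks.Basic
import Mathlib.LinearAlgebra.Matrix.Adjugate
import Mathlib.Data.Matrix.ColumnRowPartitioned

set_option autoImplicit false
set_option linter.style.haveILetI false
set_option backward.isDefEq.respectTransparency false

universe u v w

open Polynomial Matrix

noncomputable section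

namespace Groth.Agent.AffHorrocks

variable {ι : Type w} [Fintype ι] [DecidableEq ι] {A : Type u} [CommRing A]

/-- Cancel a monic scalar. -/
theorem smul_cancel {m n : Type*} {f : A[X]} (hf : f.Monic) {P Q : Matrix m n A[X]} (h : f • P = f • Q) : P = Q :=
  Matrix.ext fun i j => hf.isRegular.left (by simpa using congrFun (congrFun h i) j)

theorem pair_mid {n : ℕ} {E : Matrix ι ι A[X]} (hE : E * E = E) {f : A[X]} (hf : f.Monic)
    {U : Matrix ι (Fin n) A[X]} {W : Matrix (Fin n) ι A[X]} (hUW : U * W = f • E) (hWU : W * U = f • 1) :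
    W * E * U = f • 1 := by
  refine smul_cancel hf ?_
  calc f • (W * E * U) = W * (f • E) * U := by rw [Matrix.mul_smul, Matrix.smul_mul]
    _ = (W * U) * (W * U) := by rw [← hUW]; simp only [Matrix.mul_assoc]
    _ = f • (f • (1 : Matrix (Fin n) (Fin n) A[X])) := by rw [hWU, Matrix.smul_mul, Matrix.one_mul]

variable [IsLocalRing A]

local notation "k" => IsLocalRing.ResidueField A

/-- reduction of matrices of polynomials modulo the maximal ideal -/
abbrev bar {m n : Type*} (P : Matrix m n A[X]) : Matrix m n k[X] := P.map (red A)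

theorem bar_smul {m n : Type*} (r : A[X]) (P : Matrix m n A[X]) : bar (r • P) = red A r • bar P :=
  Matrix.ext fun i j => by simp [bar]

theorem exists_bar_eq {m n : Type*} (P : Matrix m n k[X]) : ∃ Q : Matrix m n A[X], bar Q = P := by
  choose q hq using fun i j => red_surjective (P i j)
  exact ⟨Matrix.of q, Matrix.ext hq⟩

/-- The reductions of a pair as above have the expected products with a splitting of the reduction. -/
theorem bar_pair {n r : ℕ} {E : Matrix ι ι A[X]} (hE : E * E = E) {f : A[X]} (hf : f.Monic)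
    {U : Matrix ι (Fin n) A[X]} {W : Matrix (Fin n) ι A[X]} (hUW : U * W = f • E) (hWU : W * U = f • 1)
    {uk : Matrix ι (Fin r) k[X]} {vk : Matrix (Fin r) ι k[X]} (huv : uk * vk = bar E) (hvu : vk * uk = 1) :
    (bar W * uk) * (vk * bar U) = red A f • 1 ∧ (vk * bar U) * (bar W * uk) = red A f • 1 := by
  constructor
  · rw [Matrix.mul_assoc, ← Matrix.mul_assoc uk vk, huv, ← Matrix.mul_assoc]
    simp only [bar, ← Matrix.map_mul, pair_mid hE hf hUW hWU]
    rw [show ((f • (1 : Matrix (Fin n) (Fin n) A[X])).map (red A)) = bar (f • 1) from rfl, bar_smul]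
    simp [bar]
  · rw [Matrix.mul_assoc, ← Matrix.mul_assoc (bar U)]
    simp only [bar, ← Matrix.map_mul, hUW]
    rw [show ((f • E).map (red A)) = bar (f • E) from rfl, bar_smul, ← huv, Matrix.smul_mul, Matrix.mul_smul]
    rw [show vk * (uk * vk * uk) = (vk * uk) * (vk * uk) by simp only [Matrix.mul_assoc], hvu, Matrix.one_mul]

/-- The rank one case. -/
theorem rank_one {E : Matrix ι ι A[X]} (hE : E * E = E) {f : A[X]} (hf : f.Monic)
    {U : Matrix ι (Fin 1) A[X]} {W : Matrix (Fin 1) ι A[X]} (hUW : U * W = f • E) (hWU : W * U = f • 1) :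
    ∃ (u : Matrix ι (Fin 1) A[X]) (v : Matrix (Fin 1) ι A[X]), u * v = E ∧ v * u = 1 := by
  classical
  obtain ⟨r, uk, vk, huv, hvu⟩ := exists_split_of_pid (S := k[X])
    (e := bar E) (by rw [bar, ← Matrix.map_mul, hE])
  obtain ⟨h1, h2⟩ := bar_pair hE hf hUW hWU huv hvu
  have hfk : red A f ≠ 0 := (red_monic hf).ne_zero
  obtain rfl : r = 1 := by
    refine le_antisymm ?_ ?_
    · exact card_le_of_mul_eq_smul_one hfk h2
    · rcases Nat.eq_zero_or_pos r with rfl | hr
      · exact absurd (by simpa [Matrix.mul_apply] using (congrFun (congrFun h1 0) 0).symm) hfk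
      · exact hr
  set g₀ := (bar W * uk) 0 0 with hg₀
  set d₀ := (vk * bar U) 0 0 with hd₀
  have hgd : g₀ * d₀ = red A f := by
    have h := congrFun (congrFun h1 0) 0
    rw [Matrix.mul_apply, Fin.sum_univ_one, Matrix.smul_apply, Matrix.one_apply_eq, smul_eq_mul, mul_one] at h
    exact h
  have hg₀0 : g₀ ≠ 0 := left_ne_zero_of_mul (hgd ▸ hfk)
  set s : k := g₀.leadingCoeff⁻¹ with hs
  have hs0 : s ≠ 0 := inv_ne_zero (leadingCoeff_ne_zero.2 hg₀0)
  set gb := g₀ * C s with hgb
  have hgbm : gb.Monic := monic_mul_leadingCoeff_inv hg₀0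
  set db := d₀ * C g₀.leadingCoeff with hdb
  have hgdb : gb * db = red A f := by
    rw [hgb, hdb, show g₀ * C s * (d₀ * C g₀.leadingCoeff) = g₀ * d₀ * C (s * g₀.leadingCoeff) by
      rw [map_mul]; ring, inv_mul_cancel₀ (leadingCoeff_ne_zero.2 hg₀0), map_one, mul_one, hgd]
  have hdbm : db.Monic := hgbm.of_mul_monic_left (hgdb ▸ red_monic hf)
  have hd₀db : d₀ = C s * db := by
    rw [hdb, show C s * (d₀ * C g₀.leadingCoeff) = d₀ * C (s * g₀.leadingCoeff) by rw [map_mul]; ring,
      inv_mul_cancel₀ (leadingCoeff_ne_zero.2 hg₀0), map_one, mul_one]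
  obtain ⟨ut, hut⟩ := exists_bar_eq (C s • uk)
  set P := E * ut with hP
  have hEP : E * P = P := by rw [hP, ← Matrix.mul_assoc, hE]
  have hEu : bar E * uk = uk := by rw [← huv, Matrix.mul_assoc, hvu, Matrix.mul_one]
  have hbP : bar P = C s • uk := by
    rw [hP, bar, Matrix.map_mul, show ut.map (red A) = C s • uk from hut, Matrix.mul_smul]
    exact congrArg _ hEu
  set H := W * E with hH
  have hHE : H * E = H := by rw [hH, Matrix.mul_assoc, hE]
  set g := (H * P) 0 0 with hg
  have hg' : H * P = g • (1 : Matrix (Fin 1) (Fin 1) A[X]) := Matrix.ext fun i j => by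
    fin_cases i; fin_cases j; simp [hg]
  have hgr : red A g = gb := by
    rw [hg, hH, Matrix.mul_assoc, hEP]
    show (bar (W * P)) 0 0 = _
    rw [bar, Matrix.map_mul, show P.map (red A) = _ from hbP, Matrix.mul_smul]
    rw [Matrix.smul_apply, smul_eq_mul, mul_comm, hgb]
  have hHU : H * (E * U) = f • 1 := by rw [← Matrix.mul_assoc, hHE, hH, pair_mid hE hf hUW hWU]
  -- the ideal spanned by the row `H`, modulo `f`
  haveI := hf.finite_adjoinRoot
  let π : A[X] →ₐ[A] AdjoinRoot f := AdjoinRoot.mkₐ f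
  let Φ : (ι → AdjoinRoot f) →ₗ[A] AdjoinRoot f :=
    ∑ i, (LinearMap.mulRight A (π (H 0 i))).comp (LinearMap.proj i)
  let δ := db.natDegree
  let N : Submodule A (AdjoinRoot f) := Submodule.span A (Set.range fun i : Fin δ => π (X ^ (i : ℕ) * g))
  let N' : Submodule A (AdjoinRoot f) := LinearMap.range Φ
  have hN'fg : N'.FG := (Module.Finite.iff_fg).1 (Module.Finite.range _)
  have hΦ : ∀ z : ι → A[X], Φ (fun i => π (z i)) = π ((H *ᵥ z) 0) := fun z => by
    simp only [Φ, LinearMap.sum_apply, LinearMap.comp_apply, LinearMap.proj_apply, LinearMap.mulRight_apply,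
      Matrix.mulVec, dotProduct, map_sum, map_mul]
    exact Finset.sum_congr rfl fun i _ => mul_comm _ _
  have hsingle : ∀ (p : A[X]) (i : ι), π (H 0 i * p) ∈ N' := fun p i => ⟨fun l => π ((Pi.single i p : ι → A[X]) l), by
    rw [hΦ, Matrix.mulVec_single]; simp⟩
  have hmC : ∀ (i : ι) (y : A[X]), y ∈ (IsLocalRing.maximalIdeal A).map C →
      π (H 0 i * y) ∈ IsLocalRing.maximalIdeal A • N' := by
    intro i y hy
    suffices h : ∀ p, π (H 0 i * (p * y)) ∈ IsLocalRing.maximalIdeal A • N' by simpa using h 1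
    rw [Ideal.map] at hy
    induction hy using Submodule.span_induction with
    | mem y hy =>
      obtain ⟨a, ha, rfl⟩ := hy
      intro p
      rw [show H 0 i * (p * C a) = a • (H 0 i * p) by rw [Polynomial.smul_eq_C_mul]; ring, map_smul]
      exact Submodule.smul_mem_smul ha (hsingle p i)
    | zero => intro p; simp
    | add y z _ _ hy hz => intro p; rw [mul_add, mul_add, map_add]; exact Submodule.add_mem _ (hy p) (hz p)
    | smul a y _ hy => intro p; rw [smul_eq_mul, ← mul_assoc p a y]; exact hy _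
  have hle : N' ≤ N ⊔ IsLocalRing.maximalIdeal A • N' := by
    rintro _ ⟨zb, rfl⟩
    choose z hz using fun i => AdjoinRoot.mk_surjective (zb i)
    rw [show zb = fun i => π (z i) from funext fun i => (hz i).symm, hΦ]
    set h := (vk *ᵥ (fun i => red A (z i))) 0 with hhdef
    obtain ⟨q, hq⟩ := red_surjective (A := A) (C g₀.leadingCoeff * (h /ₘ db))
    obtain ⟨ρ, hρ, hρd⟩ := mem_lifts_and_degree_eq (f := IsLocalRing.residue A)
      (p := C g₀.leadingCoeff * (h %ₘ db)) ((Polynomial.lifts_iff_coeff_lifts _).2 fun n =>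
        IsLocalRing.residue_surjective _)
    have hρlt : ρ.degree < δ := by
      rw [hρd, degree_C_mul (leadingCoeff_ne_zero.2 hg₀0), ← degree_eq_natDegree hdbm.ne_zero]
      exact degree_modByMonic_lt h hdbm
    let y : ι → A[X] := fun i => (E *ᵥ z) i - q * (E * U) i 0 - ρ * P i 0
    have hy : ∀ i, red A (y i) = 0 := by
      intro i
      have e1 : red A ((E *ᵥ z) i) = uk i 0 * h := by
        rw [RingHom.map_mulVec]
        show (bar E *ᵥ (red A ∘ z)) i = _
        rw [← huv, ← mulVec_mulVec]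
        simp [Matrix.mulVec, dotProduct, hhdef, h, Function.comp_def]
      have e2 : red A ((E * U) i 0) = uk i 0 * d₀ := by
        show bar (E * U) i 0 = _
        rw [bar, Matrix.map_mul, show E.map (red A) = _ from huv.symm, Matrix.mul_assoc]
        simp [Matrix.mul_apply, d₀, bar]
      have e3 : red A (P i 0) = C s * uk i 0 := by
        show bar P i 0 = _
        rw [hbP]; simp
      simp only [y, map_sub, map_mul, e1, e2, e3, hq, show red A ρ = _ from hρ, hd₀db]
      have hh := modByMonic_add_div h db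
      have hc : C s * C g₀.leadingCoeff = (1 : k[X]) := by
        rw [← map_mul, inv_mul_cancel₀ (leadingCoeff_ne_zero.2 hg₀0), map_one]
      linear_combination (uk i 0) * hh.symm - (uk i 0 * (db * (h /ₘ db) + h %ₘ db)) * hc
    have e : (H *ᵥ z) 0 = (H *ᵥ y) 0 + (q * f + ρ * g) := by
      have e1 : H *ᵥ (E *ᵥ z) = H *ᵥ z := by rw [mulVec_mulVec, hHE]
      have hy' : y = E *ᵥ z - q • (fun i => (E * U) i 0) - ρ • (fun i => P i 0) := funext fun i => rfl
      rw [hy', mulVec_sub, mulVec_sub, mulVec_smul, mulVec_smul, e1]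
      have e2 : (H *ᵥ fun i => (E * U) i 0) 0 = f := by
        show (H * (E * U)) 0 0 = f
        rw [hHU]; simp
      simp only [Pi.sub_apply, Pi.smul_apply, smul_eq_mul, e2]
      rw [show (H *ᵥ fun i => P i 0) 0 = g from rfl]
      ring
    rw [e, map_add, map_add, map_mul, show π f = 0 from AdjoinRoot.mk_self, mul_zero, zero_add, add_comm]
    refine Submodule.add_mem_sup ?_ ?_
    · rcases eq_or_ne ρ 0 with hρ0 | hρ0
      · rw [hρ0, zero_mul, map_zero]; exact zero_mem _
      rw [Polynomial.as_sum_range' ρ δ ((natDegree_lt_iff_degree_lt hρ0).2 hρlt), Finset.sum_mul, map_sum]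
      refine Submodule.sum_mem _ fun l hl => ?_
      rw [← C_mul_X_pow_eq_monomial, mul_assoc, ← Polynomial.smul_eq_C_mul, map_smul]
      exact Submodule.smul_mem _ _ (Submodule.subset_span ⟨⟨l, Finset.mem_range.1 hl⟩, rfl⟩)
    · simp only [Matrix.mulVec, dotProduct, map_sum]
      exact Submodule.sum_mem _ fun i _ => hmC i _ (mem_map_C_of_red_eq_zero (hy i))
  have hN := Submodule.le_of_le_smul_of_le_jacobson_bot hN'fg (IsLocalRing.maximalIdeal_le_jacobson ⊥) hle
  -- a monic relation
  have hgN' : ∀ p, π (p * g) ∈ N' := fun p => ⟨fun i => π (p * P i 0), by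
    rw [hΦ, show (fun i => p * P i 0) = p • (fun i => P i 0) from rfl, mulVec_smul]
    rfl⟩
  have hspan : ∀ x ∈ N, ∃ r : A[X], r.degree < δ ∧ π (r * g) = x := by
    intro x hx
    induction hx using Submodule.span_induction with
    | mem x hx =>
      obtain ⟨i, rfl⟩ := hx
      exact ⟨X ^ (i : ℕ), lt_of_le_of_lt (degree_X_pow_le _) (by exact_mod_cast i.2), rfl⟩
    | zero => exact ⟨0, by rw [degree_zero]; exact WithBot.bot_lt_coe _, by simp⟩
    | add x y _ _ hx hy =>
      obtain ⟨r, hr, rfl⟩ := hx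
      obtain ⟨r', hr', rfl⟩ := hy
      exact ⟨r + r', lt_of_le_of_lt (degree_add_le _ _) (max_lt hr hr'), by rw [add_mul, map_add]⟩
    | smul a x _ hx =>
      obtain ⟨r, hr, rfl⟩ := hx
      exact ⟨a • r, lt_of_le_of_lt (degree_smul_le _ _) hr, by rw [smul_mul_assoc, map_smul]⟩
  obtain ⟨r₀, hr₀, hr₀e⟩ := hspan _ (hN (hgN' (X ^ δ)))
  set d := X ^ δ - r₀ with hd
  have hdm : d.Monic := monic_X_pow_sub hr₀
  have hdd : d.natDegree = δ := by
    rw [hd]; exact natDegree_eq_of_degree_eq_some (by rw [degree_sub_eq_left_of_degree_lt] <;> simp [degree_X_pow, hr₀])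
  obtain ⟨c, hc⟩ : f ∣ d * g := AdjoinRoot.mk_eq_zero.1 (by
    show π (d * g) = 0
    rw [hd, sub_mul, map_sub, hr₀e, sub_self])
  have hc1 : red A c = 1 := by
    have h : red A d = db * red A c := mul_left_cancel₀ hgbm.ne_zero (by
      rw [← mul_assoc, hgdb, ← map_mul, ← hc, map_mul, hgr, mul_comm])
    have hcm : (red A c).Monic := hdbm.of_mul_monic_left (h ▸ red_monic hdm)
    have hdeg := congrArg natDegree h
    rw [hdbm.natDegree_mul hcm, show (red A d).natDegree = δ by rw [← hdd]; exact hdm.natDegree_map _] at hdeg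
    exact hcm.natDegree_eq_zero.1 (by omega)
  have htop := eq_top_of_monic_mem (Ideal.span {d, c}) hdm (Ideal.subset_span (by simp)) (Ideal.subset_span (by simp)) hc1
  obtain ⟨α, β, hαβ⟩ := Ideal.mem_span_pair.1 ((Ideal.eq_top_iff_one _).1 htop)
  set h := α * f + β * g with hh
  have hdh : d * h = f := by linear_combination β * hc + f * hαβ
  have hch : c * h = g := by linear_combination -α * hc + g * hαβ
  have hmem : ∀ i, h ∣ H 0 i := by
    intro i
    obtain ⟨r, -, hr⟩ := hspan _ (hN (by simpa using hsingle 1 i))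
    obtain ⟨q, hq⟩ := AdjoinRoot.mk_eq_mk.1 hr
    exact ⟨r * c - d * q, by linear_combination (-1 : A[X]) * hq - r * hch + q * hdh⟩
  choose ψ hψ using hmem
  let Ψ : Matrix (Fin 1) ι A[X] := Matrix.of fun _ i => ψ i
  have hΨ : h • Ψ = H := Matrix.ext fun a i => by fin_cases a; simp [Ψ, hψ i]
  let m₀ := α • (E * U) + β • P
  have hEm : E * m₀ = m₀ := by
    simp only [m₀, Matrix.mul_add, Matrix.mul_smul, ← Matrix.mul_assoc, hE, hEP]
  have hHm : H * m₀ = h • 1 := by
    simp only [m₀, Matrix.mul_add, Matrix.mul_smul, hHU, hg', hh, smul_smul, add_smul]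
  have hreg : ∀ {a b : A[X]}, h * a = h * b → a = b := fun {a b} hab => hf.isRegular.left (by
    show f * a = f * b
    rw [← hdh, mul_assoc, hab, mul_assoc])
  have hcancel : ∀ {m n : Type w} (P Q : Matrix m n A[X]), h • P = h • Q → P = Q := fun P Q hPQ =>
    Matrix.ext fun i j => hreg (by simpa using congrFun (congrFun hPQ i) j)
  refine ⟨m₀, Ψ, smul_cancel hf (hcancel _ _ ?_), Matrix.ext fun a b => hreg ?_⟩
  · have h3 : f • m₀ = h • (E * U) := by
      calc f • m₀ = E * (f • E) * m₀ := by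
            rw [Matrix.mul_smul, hE, Matrix.smul_mul, hEm]
        _ = E * U * (H * m₀) := by
            rw [hH, Matrix.mul_assoc W, hEm, ← hUW]; simp only [Matrix.mul_assoc]
        _ = h • (E * U) := by rw [hHm, Matrix.mul_smul, Matrix.mul_one]
    calc h • f • (m₀ * Ψ) = (f • m₀) * (h • Ψ) := by rw [Matrix.smul_mul, Matrix.mul_smul, smul_comm]
      _ = (h • (E * U)) * (W * E) := by rw [h3, hΨ]
      _ = h • f • E := by
        rw [Matrix.smul_mul, Matrix.mul_assoc, ← Matrix.mul_assoc U, hUW]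
        simp [hE]
  · have h4 : h • (Ψ * m₀) = h • 1 := by rw [← Matrix.smul_mul, hΨ, hHm]
    simpa using congrFun (congrFun h4 a) b

/-- The inductive step: a free summand of rank one splits off. -/
theorem exists_step {n : ℕ} {E : Matrix ι ι A[X]} (hE : E * E = E) {f : A[X]} (hf : f.Monic)
    {U : Matrix ι (Fin (n + 2)) A[X]} {W : Matrix (Fin (n + 2)) ι A[X]} (hUW : U * W = f • E) (hWU : W * U = f • 1) :
    ∃ (P : Matrix ι (Fin 1) A[X]) (Ψ : Matrix (Fin 1) ι A[X]) (f' : A[X]) (U' : Matrix ι (Fin (n + 1)) A[X])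
      (W' : Matrix (Fin (n + 1)) ι A[X]), E * P = P ∧ Ψ * E = Ψ ∧ Ψ * P = 1 ∧ f'.Monic ∧
      U' * W' = f' • (E - P * Ψ) ∧ W' * U' = f' • 1 := by
  classical
  obtain ⟨r, uk, vk, huv, hvu⟩ := exists_split_of_pid (S := k[X])
    (e := bar E) (by rw [bar, ← Matrix.map_mul, hE])
  obtain ⟨h1, h2⟩ := bar_pair hE hf hUW hWU huv hvu
  have hfk : red A f ≠ 0 := (red_monic hf).ne_zero
  have hr : n + 2 ≤ r := card_le_of_mul_eq_smul_one hfk h1
  let j0 : Fin r := ⟨0, by omega⟩
  let j1 : Fin r := ⟨1, by omega⟩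
  have hj : j0 ≠ j1 := by simp [j0, j1, Fin.ext_iff]
  obtain ⟨i0, hi0⟩ : ∃ i0, (bar W * uk) i0 j1 ≠ 0 := by
    by_contra hc
    push Not at hc
    have h := congrFun (congrFun h2 j1) j1
    rw [Matrix.mul_apply] at h
    simp only [hc, mul_zero, Finset.sum_const_zero, Matrix.smul_apply, Matrix.one_apply_eq, smul_eq_mul,
      mul_one] at h
    exact hfk h.symm
  obtain ⟨ut, hut⟩ := exists_bar_eq uk
  obtain ⟨vt, hvt⟩ := exists_bar_eq vk
  set u := E * ut with hu
  set v := vt * E with hv
  have hbu : bar u = uk := by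
    rw [hu, bar, Matrix.map_mul, show ut.map (red A) = uk from hut, show E.map (red A) = _ from huv.symm,
      Matrix.mul_assoc, hvu, Matrix.mul_one]
  have hbv : bar v = vk := by
    rw [hv, bar, Matrix.map_mul, show vt.map (red A) = vk from hvt, show E.map (red A) = _ from huv.symm,
      ← Matrix.mul_assoc, hvu, Matrix.one_mul]
  let a := (bar W * uk) i0 j0
  let b := (bar W * uk) i0 j1
  let L := max f.natDegree (a.natDegree + 1)
  let P₀ : Matrix ι (Fin 1) A[X] := Matrix.of fun i _ => u i j0 + X ^ L * u i j1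
  have hgdeg : red A ((W * E * P₀) i0 0) = a + X ^ L * b := by
    have hEu : E * u = u := by rw [hu, ← Matrix.mul_assoc, hE]
    have e1 : (W * E * P₀) i0 0 = (W * u) i0 j0 + X ^ L * (W * u) i0 j1 := by
      have : W * E * u = W * u := by rw [Matrix.mul_assoc, hEu]
      rw [← this]
      simp only [Matrix.mul_apply, P₀, Matrix.of_apply, Finset.mul_sum, ← Finset.sum_add_distrib]
      exact Finset.sum_congr rfl fun i _ => by ring
    have e2 : ∀ j, red A ((W * u) i0 j) = (bar W * uk) i0 j := fun j => by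
      show bar (W * u) i0 j = _
      rw [bar, Matrix.map_mul, show u.map (red A) = uk from hbu]
    rw [e1, map_add, map_mul, map_pow, e2, e2]
    simp [a, b]
  have hdega : a.natDegree < (X ^ L * b).natDegree := by
    rw [natDegree_X_pow_mul _ hi0]; omega
  have hnd : (a + X ^ L * b).natDegree = (X ^ L * b).natDegree := natDegree_add_eq_right_of_natDegree_lt hdega
  obtain ⟨c, z, hc, hz⟩ := exists_monic_adjust (g := (W * E * P₀) i0 0) hf
    (by rw [hgdeg]; intro h0; rw [h0, natDegree_zero] at hnd; omega)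
    (by rw [hgdeg, hnd, natDegree_X_pow_mul _ hi0]; omega)
  let P : Matrix ι (Fin 1) A[X] := E * (P₀ + c • Matrix.of fun i _ => U i i0)
  have hEP : E * P = P := by simp only [P, ← Matrix.mul_assoc, hE]
  let g := W * P
  have hg0 : g i0 0 = (W * E * P₀) i0 0 + f * c := by
    simp only [g, P, ← Matrix.mul_assoc, Matrix.mul_add, Matrix.mul_smul, Matrix.add_apply, Matrix.smul_apply]
    have e : (W * E * Matrix.of fun i (_ : Fin 1) => U i i0) i0 0 = (W * E * U) i0 i0 := by
      simp [Matrix.mul_apply]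
    rw [e, pair_mid hE hf hUW hWU]
    simp [mul_comm]
  have hbP : ∀ i, red A (P i 0) = uk i j0 + X ^ L * uk i j1 := by
    intro i
    show bar P i 0 = _
    have hEu : bar E * uk = uk := by rw [← huv, Matrix.mul_assoc, hvu, Matrix.mul_one]
    simp only [P, bar, Matrix.map_mul]
    conv_rhs => rw [← hEu]
    simp only [Matrix.mul_apply, bar, Matrix.map_apply, Matrix.add_apply, Matrix.smul_apply, P₀, Matrix.of_apply,
      map_add, map_mul, map_pow, smul_eq_mul, hc, zero_mul, add_zero, Finset.mul_sum, ← Finset.sum_add_distrib]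
    refine Finset.sum_congr rfl fun l _ => ?_
    rw [show red A (u l j0) = uk l j0 from congrFun (congrFun hbu l) j0,
      show red A (u l j1) = uk l j1 from congrFun (congrFun hbu l) j1]
    simp only [red, coe_mapRingHom, Polynomial.map_X]
    ring
  let J : Ideal A[X] := Ideal.span (Set.range fun i => P i 0)
  have hJ : ∀ row : ι → A[X], ∑ i, row i * P i 0 ∈ J := fun row =>
    J.sum_mem fun i _ => J.mul_mem_left _ (Ideal.subset_span ⟨i, rfl⟩)
  have htop : J = ⊤ := eq_top_of_monic_mem J hz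
    (by rw [← hg0]; exact J.mul_mem_left _ (hJ fun i => W i0 i)) (hJ fun i => v j0 i) (by
      rw [map_sum]
      simp only [map_mul, hbP, show ∀ i, red A (v j0 i) = vk j0 i from fun i => congrFun (congrFun hbv j0) i]
      have h00 := congrFun (congrFun hvu j0) j0
      have h01 := congrFun (congrFun hvu j0) j1
      rw [Matrix.mul_apply, Matrix.one_apply_eq] at h00
      rw [Matrix.mul_apply, Matrix.one_apply_ne hj] at h01
      simp only [mul_add, Finset.sum_add_distrib, h00, ← mul_assoc, mul_comm _ (X ^ L : k[X])]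
      simp only [mul_assoc, ← Finset.mul_sum, h01, mul_zero, add_zero])
  obtain ⟨ψ, hψ⟩ := Ideal.mem_span_range_iff_exists_fun.1 (show (1 : A[X]) ∈ J by rw [htop]; trivial)
  let Ψ : Matrix (Fin 1) ι A[X] := (Matrix.of fun _ i => ψ i) * E
  have hΨE : Ψ * E = Ψ := by simp only [Ψ, Matrix.mul_assoc, hE]
  have hΨP : Ψ * P = 1 := by
    simp only [Ψ, Matrix.mul_assoc, hEP]
    refine Matrix.ext fun a b => ?_
    fin_cases a; fin_cases b
    simpa [Matrix.mul_apply] using hψ
  let E' := E - P * Ψ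
  have hPΨ : P * Ψ * (P * Ψ) = P * Ψ := by rw [Matrix.mul_assoc, ← Matrix.mul_assoc Ψ, hΨP, Matrix.one_mul]
  have hE'P : E' * P = 0 := by simp only [E', Matrix.sub_mul, hEP, Matrix.mul_assoc, hΨP, Matrix.mul_one, sub_self]
  have hEE' : E * E' = E' := by simp only [E', Matrix.mul_sub, hE, ← Matrix.mul_assoc, hEP]
  have hE'E : E' * E = E' := by simp only [E', Matrix.sub_mul, hE, Matrix.mul_assoc, hΨE]
  have hE'' : E' * E' = E' := by
    conv_lhs => enter [2]; simp only [E']
    rw [Matrix.mul_sub, hE'E, ← Matrix.mul_assoc, hE'P, Matrix.zero_mul, sub_zero]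
  let g₀ := g i0 0
  let inc : Matrix (Fin (n + 2)) (Fin (n + 1)) A[X] := (1 : Matrix (Fin (n + 2)) (Fin (n + 2)) A[X]).submatrix id i0.succAbove
  let pr : Matrix (Fin (n + 1)) (Fin (n + 2)) A[X] := (1 : Matrix (Fin (n + 2)) (Fin (n + 2)) A[X]).submatrix i0.succAbove id
  let Δ : Matrix (Fin 1) (Fin (n + 2)) A[X] := Matrix.of fun _ j => if j = i0 then 1 else 0
  let Q : Matrix (Fin (n + 1)) (Fin (n + 2)) A[X] := g₀ • pr - pr * g * Δ
  have hprinc : pr * inc = 1 := Matrix.ext fun a b => by
    simp [pr, inc, Matrix.mul_apply, Matrix.one_apply, Fin.succAbove_right_inj]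
  have hΔinc : Δ * inc = 0 := Matrix.ext fun a b => by
    simp [Δ, inc, Matrix.mul_apply, Matrix.one_apply, Fin.succAbove_ne]
  have hincpr : ∀ {m : Type} (M : Matrix (Fin (n + 2)) m A[X]),
      inc * (pr * M) = M - Matrix.of fun i j => if i = i0 then M i0 j else 0 := by
    intro m M
    ext i j
    rcases Fin.eq_self_or_eq_succAbove i0 i with rfl | ⟨l, rfl⟩
    · simp [inc, Matrix.mul_apply, Matrix.one_apply, Fin.succAbove_ne, (Fin.succAbove_ne i _).symm]
    · simp [inc, pr, Matrix.mul_apply, Matrix.one_apply, Fin.succAbove_right_inj, Fin.succAbove_ne]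
  have hincQ : inc * Q = g₀ • (1 : Matrix (Fin (n + 2)) (Fin (n + 2)) A[X]) - g * Δ := by
    have e1 := hincpr (1 : Matrix (Fin (n + 2)) (Fin (n + 2)) A[X])
    have e2 := hincpr (g * Δ)
    rw [Matrix.mul_one] at e1
    simp only [Q, Matrix.mul_sub, Matrix.mul_smul, Matrix.mul_assoc pr, e1, e2]
    ext i j
    simp only [Matrix.sub_apply, Matrix.smul_apply, Matrix.of_apply, Matrix.mul_apply, Fin.sum_univ_one, Δ,
      Matrix.one_apply, g₀, smul_eq_mul]
    by_cases hi : i = i0
    · subst hi; by_cases hji : j = i <;> simp [hji, Ne.symm]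
    · simp [hi]
  have hQinc : Q * inc = g₀ • 1 := by
    simp only [Q, Matrix.sub_mul, Matrix.smul_mul, hprinc, Matrix.mul_assoc, hΔinc, Matrix.mul_zero, sub_zero]
  have hQg : Q * g = 0 := by
    have hΔg : Δ * g = g₀ • 1 := Matrix.ext fun a b => by
      fin_cases a; fin_cases b; simp [Δ, Matrix.mul_apply, g₀]
    simp only [Q, Matrix.sub_mul, Matrix.smul_mul, Matrix.mul_assoc, hΔg, Matrix.mul_smul, Matrix.mul_one, sub_self]
  refine ⟨P, Ψ, f * (C z * g₀), E' * U * inc, C z • (Q * W * E'), hEP, hΨE, hΨP, hf.mul (show (C z * g i0 0).Monic by rw [hg0]; exact hz), ?_, ?_⟩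
  · calc E' * U * inc * (C z • (Q * W * E')) = C z • (E' * U * (inc * Q) * (W * E')) := by
          rw [Matrix.mul_smul]; simp only [Matrix.mul_assoc]
      _ = C z • (g₀ • (E' * (U * W) * E') - E' * (U * W) * P * Δ * (W * E')) := by
          rw [hincQ]
          simp only [Matrix.mul_sub, Matrix.sub_mul, Matrix.mul_smul, Matrix.smul_mul, Matrix.mul_one,
            Matrix.mul_assoc, g]
      _ = (f * (C z * g₀)) • (E - P * Ψ) := by
          simp only [hUW, Matrix.mul_smul, Matrix.smul_mul, hE'E, hE'', hE'P, Matrix.zero_mul, smul_zero, sub_zero,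
            smul_smul]
          congr 1
          ring
  · calc C z • (Q * W * E') * (E' * U * inc) = C z • (Q * (W * (E' * E') * U) * inc) := by
          rw [Matrix.smul_mul]; simp only [Matrix.mul_assoc]
      _ = C z • (Q * (f • (1 : Matrix (Fin (n + 2)) (Fin (n + 2)) A[X])) * inc - Q * g * (Ψ * U) * inc) := by
          rw [hE'', ← pair_mid hE hf hUW hWU]
          simp only [E', g, Matrix.mul_sub, Matrix.sub_mul, Matrix.mul_assoc]
      _ = (f * (C z * g₀)) • 1 := by
          simp only [hQg, Matrix.zero_mul, sub_zero, Matrix.mul_smul, Matrix.smul_mul, Matrix.mul_one, hQinc,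
            smul_smul]
          congr 1
          ring

/-- Horrocks: free after inverting a monic polynomial implies free. -/
theorem exists_split_of_pair : ∀ (n : ℕ) {E : Matrix ι ι A[X]}, E * E = E → ∀ {f : A[X]}, f.Monic →
    ∀ {U : Matrix ι (Fin n) A[X]} {W : Matrix (Fin n) ι A[X]}, U * W = f • E → W * U = f • 1 →
    ∃ (u : Matrix ι (Fin n) A[X]) (v : Matrix (Fin n) ι A[X]), u * v = E ∧ v * u = 1
  | 0, E, _, f, hf, U, W, hUW, _ => ⟨0, 0, smul_cancel hf (by
      rw [← hUW]; ext i j; simp [Matrix.mul_apply]), Matrix.ext fun i => i.elim0⟩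
  | 1, _, hE, _, hf, _, _, hUW, hWU => rank_one hE hf hUW hWU
  | n + 2, E, hE, f, hf, U, W, hUW, hWU => by
    obtain ⟨P, Ψ, f', U', W', hEP, hΨE, hΨP, hf', hUW', hWU'⟩ := exists_step hE hf hUW hWU
    have hE'P : (E - P * Ψ) * P = 0 := by simp only [Matrix.sub_mul, hEP, Matrix.mul_assoc, hΨP, Matrix.mul_one, sub_self]
    have hΨE' : Ψ * (E - P * Ψ) = 0 := by simp only [Matrix.mul_sub, hΨE, ← Matrix.mul_assoc, hΨP, Matrix.one_mul, sub_self]
    have hE'' : (E - P * Ψ) * (E - P * Ψ) = E - P * Ψ := by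
      rw [Matrix.mul_sub, ← Matrix.mul_assoc, hE'P, Matrix.zero_mul, sub_zero, Matrix.sub_mul, hE,
        Matrix.mul_assoc, hΨE]
    obtain ⟨u, v, huv, hvu⟩ := exists_split_of_pair (n + 1) hE'' hf' hUW' hWU'
    have hu : Ψ * u = 0 := by
      rw [show u = (E - P * Ψ) * u by rw [← huv, Matrix.mul_assoc, hvu, Matrix.mul_one], ← Matrix.mul_assoc, hΨE',
        Matrix.zero_mul]
    have hv : v * P = 0 := by
      rw [show v = v * (E - P * Ψ) by rw [← huv, ← Matrix.mul_assoc, hvu, Matrix.one_mul], Matrix.mul_assoc, hE'P,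
        Matrix.mul_zero]
    let e : Fin (n + 2) ≃ Fin (n + 1) ⊕ Fin 1 := (finSumFinEquiv (m := n + 1) (n := 1)).symm
    refine ⟨(Matrix.fromCols u P).submatrix id e, (Matrix.fromRows v Ψ).submatrix e id, ?_, ?_⟩
    · rw [Matrix.submatrix_mul_equiv, Matrix.fromCols_mul_fromRows, huv, Matrix.submatrix_id_id, sub_add_cancel]
    · rw [← Matrix.submatrix_mul _ _ e id e Function.bijective_id, Matrix.fromRows_mul_fromCols, hvu, hv, hu, hΨP,
        Matrix.fromBlocks_one, Matrix.submatrix_one_equiv]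

end Groth.Agent.AffHorrocks
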