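/-
A projective module over `A[X]`, `A` local, that extends to the projective line is free.
-/
import Groth.Agent.AffineHorrocks.Local
import Mathlib.Algebra.Polynomial.Laurent

set_option autoImplicit false
set_option linter.style.haveILetI false
set_option backward.isDefEq.respectTransparency false

universe u v w

open Polynomial Matrix LaurentPolynomial

noncomputable section

namespace Groth.Agent.AffHorrocks

variable {ι κ : Type w} [Fintype ι] [DecidableEq ι] [Fintype κ] [DecidableEq κ] {A : Type u} [CommRing A]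

/-- Laurent polynomial matrices become polynomial after multiplying by a power of `T`. -/
theorem exists_clear {m n : Type*} [Finite m] [Finite n] (P : Matrix m n A[T;T⁻¹]) :
    ∃ (a : ℕ) (Q : Matrix m n A[X]), Q.map toLaurent = (T a : A[T;T⁻¹]) • P := by
  classical
  cases nonempty_fintype m
  cases nonempty_fintype n
  choose a q hq using fun i j => exists_T_pow (P i j)
  refine ⟨Finset.univ.sup fun x : m × n => a x.1 x.2,
    Matrix.of fun i j => q i j * Polynomial.X ^ ((Finset.univ.sup fun x : m × n => a x.1 x.2) - a i j), ?_⟩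
  refine Matrix.ext fun i j => ?_
  have hle : a i j ≤ Finset.univ.sup fun x : m × n => a x.1 x.2 :=
    Finset.le_sup (f := fun x : m × n => a x.1 x.2) (Finset.mem_univ (i, j))
  simp only [Matrix.map_apply, Matrix.of_apply, map_mul, toLaurent_X_pow, hq, Matrix.smul_apply, smul_eq_mul]
  rw [mul_assoc, ← T_add, mul_comm, ← Int.natCast_add, Nat.add_sub_cancel' hle]

/-- Near infinity an idempotent matrix over a local ring splits. -/
theorem exists_split_near_zero [IsLocalRing A] {F : Matrix κ κ A[X]} (hF : F * F = F) :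
    ∃ (n : ℕ) (u : Matrix κ (Fin n) A[X]) (w : Matrix (Fin n) κ A[X]) (G : A[X]),
      G.eval 0 = 1 ∧ u * w = G • F ∧ w * u = G • 1 ∧ F * u = u := by
  classical
  let ev := Polynomial.evalRingHom (0 : A)
  obtain ⟨n, u₀, v₀, huv, hvu⟩ := exists_split_of_isLocalRing (e := F.map ev) (by rw [← Matrix.map_mul, hF])
  set u := F * u₀.map Polynomial.C with hu
  set v := v₀.map Polynomial.C * F with hv
  have hFu : F * u = u := by rw [hu, ← Matrix.mul_assoc, hF]
  have hu0 : u.map ev = u₀ := by
    rw [hu, Matrix.map_mul, show (u₀.map Polynomial.C).map ev = u₀ from Matrix.ext fun i j => by simp [ev], ← huv,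
      Matrix.mul_assoc, hvu, Matrix.mul_one]
  have hv0 : v.map ev = v₀ := by
    rw [hv, Matrix.map_mul, show (v₀.map Polynomial.C).map ev = v₀ from Matrix.ext fun i j => by simp [ev], ← huv,
      ← Matrix.mul_assoc, hvu, Matrix.one_mul]
  set g := (v * u).det with hg
  set w := (v * u).adjugate * v with hw
  have hwu : w * u = g • 1 := by rw [hw, Matrix.mul_assoc, adjugate_mul]
  have hwF : w * F = w := by
    have hvF : v * F = v := by rw [hv, Matrix.mul_assoc, hF]
    rw [hw, Matrix.mul_assoc, hvF]
  set D := g • F - u * w with hD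
  have hDD : D * D = g • D := by
    simp only [hD, Matrix.sub_mul, Matrix.mul_sub, Matrix.smul_mul, Matrix.mul_smul, hF, smul_sub, smul_smul]
    rw [← Matrix.mul_assoc F u w, hFu, Matrix.mul_assoc u w F, hwF,
      show u * w * (u * w) = u * ((w * u) * w) by simp only [Matrix.mul_assoc], hwu]
    simp only [Matrix.smul_mul, Matrix.one_mul, Matrix.mul_smul]
    abel
  set M := g • (1 : Matrix κ κ A[X]) - D with hM
  have hDM : D * M = 0 := by rw [hM, Matrix.mul_sub, Matrix.mul_smul, Matrix.mul_one, hDD, sub_self]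
  set g' := M.det with hg'
  have hg'D : g' • D = 0 := by
    calc g' • D = D * (M * M.adjugate) := by rw [mul_adjugate, Matrix.mul_smul, Matrix.mul_one]
      _ = 0 := by rw [← Matrix.mul_assoc, hDM, Matrix.zero_mul]
  have hg0 : ev g = 1 := by
    rw [hg, RingHom.map_det, RingHom.mapMatrix_apply, Matrix.map_mul, hv0, hu0, hvu, det_one]
  have hw0 : w.map ev = v₀ := by
    rw [hw, Matrix.map_mul, show (v * u).adjugate.map ev = ((v * u).map ev).adjugate from RingHom.map_adjugate ev _,
      Matrix.map_mul, hv0, hu0, hvu, adjugate_one, Matrix.one_mul]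
  have hg'0 : ev g' = 1 := by
    have hD0 : D.map ev = 0 := by
      refine Matrix.ext fun i j => ?_
      have h1 : (u * w).map ev = F.map ev := by rw [Matrix.map_mul, hu0, hw0, huv]
      have h2 := congrFun (congrFun h1 i) j
      simp only [Matrix.map_apply] at h2
      simp [hD, hg0, h2]
    rw [hg', RingHom.map_det, RingHom.mapMatrix_apply]
    have : M.map ev = 1 := Matrix.ext fun i j => by
      have h2 := congrFun (congrFun hD0 i) j
      simp only [Matrix.map_apply, Matrix.zero_apply] at h2
      by_cases hij : i = j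
      · subst hij; simp [hM, hg0, h2]
      · simp [hM, h2, hij]
    rw [this, det_one]
  refine ⟨n, u, g' • w, g * g', ?_, ?_, ?_, hFu⟩
  · show ev (g * g') = 1
    rw [map_mul, hg0, hg'0, mul_one]
  · rw [Matrix.mul_smul, show u * w = g • F - D by rw [hD, sub_sub_cancel], smul_sub, hg'D, sub_zero, smul_smul,
      mul_comm]
  · rw [Matrix.smul_mul, hwu, smul_smul, mul_comm]

/-- Over a local ring a bundle on the projective line is free on the affine line. -/
theorem exists_split_of_glue [IsLocalRing A] {E : Matrix ι ι A[X]} {F : Matrix κ κ A[X]} (hE : E * E = E)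
    (hF : F * F = F) {x : Matrix ι κ A[T;T⁻¹]} {y : Matrix κ ι A[T;T⁻¹]} (hxy : x * y = E.map toLaurent)
    (hyx : y * x = (F.map toLaurent).map invert) :
    ∃ (n : ℕ) (u : Matrix ι (Fin n) A[X]) (v : Matrix (Fin n) ι A[X]), u * v = E ∧ v * u = 1 := by
  obtain ⟨n, u, w, G, hG0, huw, hwu, hFu⟩ := exists_split_near_zero hF
  let ψ : A[X] →+* A[T;T⁻¹] := (invert (R := A)).toRingEquiv.toRingHom.comp toLaurent
  have hyx' : y * x = F.map ψ := by rw [hyx, Matrix.map_map]; rfl
  set U₀ := x * u.map ψ with hU₀
  set W₀ := w.map ψ * y with hW₀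
  have hsm : ∀ {m l : Type w} (P : Matrix m l A[X]) (r : A[X]), (r • P).map ψ = ψ r • P.map ψ := fun P r =>
    Matrix.ext fun i j => by simp
  have hUW : U₀ * W₀ = ψ G • E.map toLaurent := by
    rw [hU₀, hW₀, Matrix.mul_assoc, ← Matrix.mul_assoc (u.map ψ), ← Matrix.map_mul, huw, hsm, Matrix.smul_mul,
      Matrix.mul_smul, ← hyx', Matrix.mul_assoc y, hxy]
    congr 1
    rw [← Matrix.mul_assoc, hxy, ← Matrix.map_mul, hE]
  have hWU : W₀ * U₀ = ψ G • 1 := by
    rw [hU₀, hW₀, Matrix.mul_assoc, ← Matrix.mul_assoc y, hyx', ← Matrix.map_mul, hFu, ← Matrix.map_mul, hwu]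
    exact Matrix.ext fun i j => by by_cases h : i = j <;> simp [h]
  obtain ⟨a, U₁, hU₁⟩ := exists_clear U₀
  obtain ⟨b, W₁, hW₁⟩ := exists_clear W₀
  let f : A[X] := Polynomial.X ^ (a + b) * G.reverse
  have hf : f.Monic := by
    refine (monic_X_pow _).mul ?_
    show G.reverse.leadingCoeff = 1
    rw [reverse_leadingCoeff, trailingCoeff, natTrailingDegree_eq_zero.2 (Or.inr ?_), coeff_zero_eq_eval_zero, hG0]
    rw [coeff_zero_eq_eval_zero, hG0]
    exact one_ne_zero
  have hfL : toLaurent f = T (a : ℤ) * T (b : ℤ) * T (G.natDegree : ℤ) * ψ G := by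
    simp only [f, map_mul, toLaurent_X_pow, toLaurent_reverse, Nat.cast_add, T_add, ψ, RingHom.comp_apply]
    rw [show (invert (R := A)).toRingEquiv.toRingHom (toLaurent G) = invert (toLaurent G) from rfl]
    ring
  have hmap : ∀ {m l : Type w} (r : A[X]) (P : Matrix m l A[X]), (r • P).map toLaurent = toLaurent r • P.map toLaurent :=
    fun r P => Matrix.ext fun i j => by simp
  refine ⟨n, exists_split_of_pair n hE hf (U := U₁) (W := (Polynomial.X ^ G.natDegree : A[X]) • W₁)
    (Matrix.map_injective toLaurent_injective ?_) (Matrix.map_injective toLaurent_injective ?_)⟩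
  · show (U₁ * ((Polynomial.X ^ G.natDegree : A[X]) • W₁)).map toLaurent = (f • E).map toLaurent
    rw [hmap, hfL, Matrix.mul_smul, show ((Polynomial.X ^ G.natDegree : A[X]) • (U₁ * W₁)).map toLaurent =
      toLaurent (Polynomial.X ^ G.natDegree : A[X]) • (U₁ * W₁).map toLaurent from Matrix.ext fun i j => by rw [Matrix.map_apply, Matrix.smul_apply, smul_eq_mul, map_mul, Matrix.smul_apply, smul_eq_mul, Matrix.map_apply],
      Matrix.map_mul, hU₁, hW₁, Matrix.smul_mul, Matrix.mul_smul, hUW, toLaurent_X_pow]
    simp only [smul_smul]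
    congr 1
    ring
  · show (((Polynomial.X ^ G.natDegree : A[X]) • W₁) * U₁).map toLaurent = (f • (1 : Matrix (Fin n) (Fin n) A[X])).map toLaurent
    rw [Matrix.smul_mul, show ((Polynomial.X ^ G.natDegree : A[X]) • (W₁ * U₁)).map toLaurent =
      toLaurent (Polynomial.X ^ G.natDegree : A[X]) • (W₁ * U₁).map toLaurent from Matrix.ext fun i j => by rw [Matrix.map_apply, Matrix.smul_apply, smul_eq_mul, map_mul, Matrix.smul_apply, smul_eq_mul, Matrix.map_apply],
      show (f • (1 : Matrix (Fin n) (Fin n) A[X])).map toLaurent = toLaurent f • 1 from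
        Matrix.ext fun i j => by by_cases h : i = j <;> simp [h],
      hfL, Matrix.map_mul, hU₁, hW₁, Matrix.smul_mul, Matrix.mul_smul, hWU, toLaurent_X_pow]
    simp only [smul_smul]
    congr 1
    ring

end Groth.Agent.AffHorrocks
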