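/-
Quillen patching for idempotent matrices over polynomial rings.
-/
import Mathlib.Algebra.Polynomial.AlgebraMap
import Mathlib.Algebra.Polynomial.Laurent
import Mathlib.Data.Matrix.Mul
import Mathlib.RingTheory.Localization.AtPrime.Basic

set_option autoImplicit false
set_option linter.style.haveILetI false
set_option backward.isDefEq.respectTransparency false

universe u v w

open Polynomial Matrix

noncomputable section

namespace Groth.Agent.AffHorrocks

variable {A : Type u} [CommRing A]

/-- `X ↦ X + aY` -/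
def shift (a : A) : A[X] →+* A[X][X] := eval₂RingHom (C.comp C) (C X + C (C a) * X)

/-- `Y ↦ bY` -/
def scaleY (b : A) : A[X][X] →+* A[X][X] := eval₂RingHom C (C (C b) * X)

/-- `X ↦ X + aY, Y ↦ Y` -/
def shiftX (a : A) : A[X][X] →+* A[X][X] := eval₂RingHom (shift a) X

theorem scaleY_comp_C (b : A) : (scaleY b).comp C = C := RingHom.ext fun p => by simp [scaleY]

theorem scaleY_comp_shift (a b : A) : (scaleY b).comp (shift a) = shift (a * b) :=
  ringHom_ext (fun r => by simp [scaleY, shift]) (by simp [scaleY, shift, mul_assoc])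

theorem shiftX_comp_C (a : A) : (shiftX a).comp C = shift a := RingHom.ext fun p => by simp [shiftX]

theorem shiftX_comp_shift (a b : A) : (shiftX a).comp (shift b) = shift (a + b) :=
  ringHom_ext (fun r => by simp [shiftX, shift]) (by simp [shiftX, shift]; ring)

theorem shift_zero : shift (0 : A) = C := ringHom_ext (fun r => by simp [shift]) (by simp [shift])

variable {ι : Type w} [Fintype ι] [DecidableEq ι]

/-- the elements `a` for which `E(X)` and `E(X + aY)` are equivalent -/
def patchIdeal (E : Matrix ι ι A[X]) (hE : E * E = E) : Ideal A where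
  carrier := {a | ∃ x y : Matrix ι ι A[X][X], x * y = E.map (shift a) ∧ y * x = E.map C}
  zero_mem' := ⟨E.map C, E.map C, by rw [shift_zero, ← Matrix.map_mul, hE], by rw [← Matrix.map_mul, hE]⟩
  add_mem' := by
    rintro a b ⟨xa, ya, ha, ha'⟩ ⟨xb, yb, hb, hb'⟩
    have h1 : xb.map (shiftX a) * yb.map (shiftX a) = E.map (shift (a + b)) := by
      rw [← Matrix.map_mul, hb, Matrix.map_map, ← shiftX_comp_shift a b]; rfl
    have h2 : yb.map (shiftX a) * xb.map (shiftX a) = E.map (shift a) := by
      rw [← Matrix.map_mul, hb', Matrix.map_map, ← shiftX_comp_C a]; rfl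
    refine ⟨xb.map (shiftX a) * xa, ya * yb.map (shiftX a), ?_, ?_⟩
    · calc xb.map (shiftX a) * xa * (ya * yb.map (shiftX a))
          = xb.map (shiftX a) * (xa * ya) * yb.map (shiftX a) := by simp only [Matrix.mul_assoc]
        _ = (xb.map (shiftX a) * yb.map (shiftX a)) * (xb.map (shiftX a) * yb.map (shiftX a)) := by
            rw [ha, ← h2]; simp only [Matrix.mul_assoc]
        _ = E.map (shift (a + b)) := by rw [h1, ← Matrix.map_mul, hE]
    · calc ya * yb.map (shiftX a) * (xb.map (shiftX a) * xa)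
          = ya * (yb.map (shiftX a) * xb.map (shiftX a)) * xa := by simp only [Matrix.mul_assoc]
        _ = (ya * xa) * (ya * xa) := by rw [h2, ← ha]; simp only [Matrix.mul_assoc]
        _ = E.map C := by rw [ha', ← Matrix.map_mul, hE]
  smul_mem' := by
    rintro b a ⟨x, y, h, h'⟩
    refine ⟨x.map (scaleY b), y.map (scaleY b), ?_, ?_⟩
    · rw [← Matrix.map_mul, h, Matrix.map_map, smul_eq_mul, mul_comm, ← scaleY_comp_shift a b]; rfl
    · rw [← Matrix.map_mul, h', Matrix.map_map]
      exact congrArg (fun φ : A[X] →+* A[X][X] => E.map φ) (scaleY_comp_C b)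

variable {B : Type v} [CommRing B] (φ : A →+* B)

/-- the map on polynomials in two variables -/
abbrev map₂ : A[X][X] →+* B[X][X] := mapRingHom (mapRingHom φ)

theorem map₂_comp_C : (map₂ φ).comp C = C.comp (mapRingHom φ) := RingHom.ext fun p => by simp [map₂]

theorem map₂_comp_shift (a : A) : (map₂ φ).comp (shift a) = (shift (φ a)).comp (mapRingHom φ) :=
  ringHom_ext (fun r => by simp [map₂, shift]) (by simp [map₂, shift])

theorem map₂_comp_scaleY (a : A) : (map₂ φ).comp (scaleY a) = (scaleY (φ a)).comp (map₂ φ) :=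
  ringHom_ext (fun r => by simp [map₂, scaleY]) (by simp [map₂, scaleY])

theorem eval_zero_scaleY (b : A) (p : A[X][X]) : (scaleY b p).eval 0 = p.eval 0 := by
  have : (evalRingHom (0 : A[X])).comp (scaleY b) = evalRingHom 0 :=
    ringHom_ext (fun r => by simp [scaleY]) (by simp [scaleY])
  exact DFunLike.congr_fun this p

theorem eval_zero_shift (a : A) (p : A[X]) : (shift a p).eval 0 = p := by
  have : (evalRingHom (0 : A[X])).comp (shift a) = RingHom.id _ :=
    ringHom_ext (fun r => by simp [shift]) (by simp [shift])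
  exact DFunLike.congr_fun this p

section Local

variable (S : Submonoid A) [Algebra A B] [IsLocalization S B]

local notation "Φ" => map₂ (algebraMap A B)

include S in
theorem exists_integral (q : B[X][X]) :
    ∃ s ∈ S, ∃ q₀ : A[X][X], Φ q₀ = C (C (algebraMap A B s)) * q := by
  induction q using Polynomial.induction_on' with
  | add p q hp hq =>
    obtain ⟨s, hs, p₀, hp₀⟩ := hp
    obtain ⟨t, ht, q₀, hq₀⟩ := hq
    refine ⟨s * t, mul_mem hs ht, C (C t) * p₀ + C (C s) * q₀, ?_⟩
    rw [map_add, map_mul, map_mul, hp₀, hq₀]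
    simp [map₂]; ring
  | monomial n c =>
    induction c using Polynomial.induction_on' with
    | add p q hp hq =>
      obtain ⟨s, hs, p₀, hp₀⟩ := hp
      obtain ⟨t, ht, q₀, hq₀⟩ := hq
      refine ⟨s * t, mul_mem hs ht, C (C t) * p₀ + C (C s) * q₀, ?_⟩
      rw [map_add, map_mul, map_mul, hp₀, hq₀, map_add]
      simp only [map₂, coe_mapRingHom, Polynomial.map_C, map_mul]
      ring
    | monomial m b =>
      obtain ⟨⟨a, s⟩, hab⟩ := IsLocalization.surj S b
      refine ⟨s, s.2, monomial n (monomial m a), ?_⟩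
      simp [map₂, C_mul_monomial, ← hab, mul_comm]

include S in
theorem exists_kill (d : A[X][X]) (hd : Φ d = 0) : ∃ c ∈ S, C (C c) * d = 0 := by
  classical
  have h : ∀ nm : ℕ × ℕ, ∃ c ∈ S, c * (d.coeff nm.1).coeff nm.2 = 0 := fun nm => by
    have h1 := congrArg (fun p : B[X][X] => (p.coeff nm.1).coeff nm.2) hd
    simp only [map₂, coe_mapRingHom, coeff_map, coeff_zero] at h1
    obtain ⟨c, hc⟩ := (IsLocalization.map_eq_zero_iff S B _).1 h1
    exact ⟨c, c.2, hc⟩
  choose c hcS hc using h
  refine ⟨∏ nm ∈ d.support.sigma (fun n => (d.coeff n).support), c (nm.1, nm.2),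
    Submonoid.prod_mem _ fun _ _ => hcS _, ?_⟩
  refine Polynomial.ext fun n => Polynomial.ext fun m => ?_
  rw [coeff_C_mul, coeff_C_mul, coeff_zero, coeff_zero]
  by_cases hnm : (d.coeff n).coeff m = 0
  · rw [hnm, mul_zero]
  · obtain ⟨q, hq⟩ := Finset.dvd_prod_of_mem (fun nm : (_ : ℕ) × ℕ => c (nm.1, nm.2))
      (show (⟨n, m⟩ : (_ : ℕ) × ℕ) ∈ d.support.sigma (fun n => (d.coeff n).support) by
        simp only [Finset.mem_sigma, mem_support_iff]
        exact ⟨fun h0 => hnm (by rw [h0, coeff_zero]), hnm⟩)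
    rw [hq, mul_comm _ q, mul_assoc, hc (n, m), mul_zero]

include S in
theorem exists_lift (q : B[X][X]) (e : A[X]) (hq : q.eval 0 = mapRingHom (algebraMap A B) e) :
    ∃ s ∈ S, ∀ t : A, ∃ q₁ : A[X][X], Φ q₁ = scaleY (algebraMap A B (s * t)) q ∧ q₁.eval 0 = e := by
  obtain ⟨s, hs, q₀, hq₀⟩ := exists_integral S q.divX
  refine ⟨s, hs, fun t => ⟨C e + C (C t) * (X * scaleY (s * t) q₀), ?_, by simp⟩⟩
  have h := congrArg (scaleY (algebraMap A B (s * t))) hq₀
  rw [map_mul (scaleY _), show scaleY (algebraMap A B (s * t)) (C (C (algebraMap A B s))) = C (C (algebraMap A B s)) by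
    simp [scaleY], ← RingHom.comp_apply, ← map₂_comp_scaleY, RingHom.comp_apply] at h
  conv_rhs => rw [← q.X_mul_divX_add]
  rw [map_add, map_add, map_mul, map_mul, map_mul, h, ← RingHom.comp_apply, map₂_comp_C, RingHom.comp_apply,
    ← hq, ← coeff_zero_eq_eval_zero]
  simp [map₂, scaleY, map_mul]
  ring

include S in
theorem exists_lift_matrix {m n : Type*} [Finite m] [Finite n] (q : Matrix m n B[X][X]) (e : Matrix m n A[X])
    (hq : q.map (eval 0) = e.map (mapRingHom (algebraMap A B))) :
    ∃ s ∈ S, ∀ t : A, ∃ q₁ : Matrix m n A[X][X],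
      q₁.map Φ = q.map (scaleY (algebraMap A B (s * t))) ∧ q₁.map (eval 0) = e := by
  classical
  cases nonempty_fintype m
  cases nonempty_fintype n
  choose s hs H using fun i j => exists_lift S (q i j) (e i j) (congrFun (congrFun hq i) j)
  refine ⟨∏ x : m × n, s x.1 x.2, Submonoid.prod_mem _ fun _ _ => hs _ _, fun t => ?_⟩
  have : ∀ i j, ∃ q₁ : A[X][X], Φ q₁ = scaleY (algebraMap A B ((∏ x : m × n, s x.1 x.2) * t)) (q i j) ∧
      q₁.eval 0 = e i j := fun i j => by
    obtain ⟨r, hr⟩ := Finset.dvd_prod_of_mem (fun x : m × n => s x.1 x.2) (Finset.mem_univ (i, j))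
    obtain ⟨q₁, h1, h2⟩ := H i j (r * t)
    exact ⟨q₁, by rw [hr, mul_assoc]; exact h1, h2⟩
  choose q₁ h1 h2 using this
  exact ⟨Matrix.of q₁, Matrix.ext h1, Matrix.ext h2⟩

include S in
theorem exists_kill_matrix {m n : Type*} [Finite m] [Finite n] (D : Matrix m n A[X][X]) (hD : D.map Φ = 0)
    (hD0 : D.map (eval 0) = 0) : ∃ c ∈ S, ∀ t : A, D.map (scaleY (c * t)) = 0 := by
  classical
  cases nonempty_fintype m
  cases nonempty_fintype n
  choose c hc hcD using fun i j => exists_kill (B := B) S (D i j) (congrFun (congrFun hD i) j)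
  refine ⟨∏ x : m × n, c x.1 x.2, Submonoid.prod_mem _ fun _ _ => hc _ _, fun t => Matrix.ext fun i j => ?_⟩
  obtain ⟨r, hr⟩ := Finset.dvd_prod_of_mem (fun x : m × n => c x.1 x.2) (Finset.mem_univ (i, j))
  show scaleY _ (D i j) = 0
  have h0 : (D i j).coeff 0 = 0 := by rw [coeff_zero_eq_eval_zero]; exact congrFun (congrFun hD0 i) j
  have hD' : D i j = X * (D i j).divX := by
    conv_lhs => rw [← (D i j).X_mul_divX_add, h0, map_zero, add_zero]
  have h := hcD i j
  rw [hD', mul_left_comm] at h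
  have h2 := congrArg (scaleY ((∏ x : m × n, c x.1 x.2) * t)) (isRegular_X.left (h.trans (mul_zero X).symm))
  rw [map_mul, map_zero, show scaleY ((∏ x : m × n, c x.1 x.2) * t) (C (C (c i j))) = C (C (c i j)) by simp [scaleY]] at h2
  rw [hD', map_mul, show scaleY ((∏ x : m × n, c x.1 x.2) * t) X = C (C r * C t) * X * C (C (c i j)) by
    simp only [scaleY, coe_eval₂RingHom, eval₂_X, hr, map_mul]; ring, mul_assoc, h2, mul_zero]

include S in
/-- A local splitting gives elements of the patching ideal outside the prime. -/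
theorem exists_mem_patchIdeal {E : Matrix ι ι A[X]} (hE : E * E = E) {n : ℕ} {u : Matrix ι (Fin n) B[X]}
    {v : Matrix (Fin n) ι B[X]} (huv : u * v = E.map (mapRingHom (algebraMap A B))) (hvu : v * u = 1) :
    ∃ s ∈ S, s ∈ patchIdeal E hE := by
  let sh := shift (1 : B)
  let x' : Matrix ι ι B[X][X] := u.map sh * v.map C
  let y' : Matrix ι ι B[X][X] := u.map C * v.map sh
  have hxy : x' * y' = (E.map (mapRingHom (algebraMap A B))).map sh := by
    simp only [x', y', Matrix.mul_assoc]
    rw [← Matrix.mul_assoc (v.map C), ← Matrix.map_mul, hvu, Matrix.map_one _ (map_zero _) (map_one _),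
      Matrix.one_mul, ← Matrix.map_mul, huv]
  have hyx : y' * x' = (E.map (mapRingHom (algebraMap A B))).map C := by
    simp only [x', y', Matrix.mul_assoc]
    rw [← Matrix.mul_assoc (v.map sh), ← Matrix.map_mul, hvu, Matrix.map_one _ (map_zero _) (map_one _),
      Matrix.one_mul, ← Matrix.map_mul, huv]
  let ev : B[X][X] →+* B[X] := evalRingHom 0
  have evsh : ∀ {m l : Type w} (P : Matrix m l B[X]), (P.map sh).map ev = P := fun P =>
    Matrix.ext fun i j => eval_zero_shift 1 _
  have hx0 : x'.map (eval 0) = E.map (mapRingHom (algebraMap A B)) := by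
    show x'.map ev = _
    simp only [x', Matrix.map_mul]
    rw [show (u.map sh).map ev = u from Matrix.ext fun i j => eval_zero_shift 1 _,
      show (v.map C).map ev = v from Matrix.ext fun i j => eval_C, huv]
  have hy0 : y'.map (eval 0) = E.map (mapRingHom (algebraMap A B)) := by
    show y'.map ev = _
    simp only [y', Matrix.map_mul]
    rw [show (v.map sh).map ev = v from Matrix.ext fun i j => eval_zero_shift 1 _,
      show (u.map C).map ev = u from Matrix.ext fun i j => eval_C, huv]
  obtain ⟨s₁, hs₁, H1⟩ := exists_lift_matrix S x' E hx0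
  obtain ⟨s₂, hs₂, H2⟩ := exists_lift_matrix S y' E hy0
  obtain ⟨x₁, hx₁, hx₁0⟩ := H1 s₂
  obtain ⟨y₁, hy₁, hy₁0⟩ := H2 s₁
  rw [mul_comm s₂ s₁] at hy₁
  set s := s₁ * s₂
  have hev : ∀ {m l : Type w} (P : Matrix m l A[X][X]), P.map (eval 0) = P.map (evalRingHom (0 : A[X])) :=
    fun P => rfl
  have hD1 : (x₁ * y₁ - E.map (shift s)).map Φ = 0 := by
    refine (Matrix.map_sub _ (map_sub _) _ _).trans (sub_eq_zero.2 ?_)
    rw [Matrix.map_mul, hx₁, hy₁, ← Matrix.map_mul, hxy, Matrix.map_map, Matrix.map_map, Matrix.map_map]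
    refine congrArg (fun g => E.map g) (funext fun p => ?_)
    simp only [Function.comp_apply]
    rw [← RingHom.comp_apply (scaleY _) sh, scaleY_comp_shift, one_mul, ← RingHom.comp_apply Φ, map₂_comp_shift]
    rfl
  have hD2 : (y₁ * x₁ - E.map C).map Φ = 0 := by
    refine (Matrix.map_sub _ (map_sub _) _ _).trans (sub_eq_zero.2 ?_)
    rw [Matrix.map_mul, hx₁, hy₁, ← Matrix.map_mul, hyx, Matrix.map_map, Matrix.map_map, Matrix.map_map]
    refine congrArg (fun g => E.map g) (funext fun p => ?_)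
    simp [scaleY, map₂]
  have hD10 : (x₁ * y₁ - E.map (shift s)).map (eval 0) = 0 := by
    refine (Matrix.map_sub _ (fun a b => eval_sub ..) _ _).trans (sub_eq_zero.2 ?_)
    rw [hev, hev, Matrix.map_mul, ← hev, ← hev, hx₁0, hy₁0, hE, ← hev]
    exact Matrix.ext fun i j => (eval_zero_shift s _).symm
  have hD20 : (y₁ * x₁ - E.map C).map (eval 0) = 0 := by
    refine (Matrix.map_sub _ (fun a b => eval_sub ..) _ _).trans (sub_eq_zero.2 ?_)
    rw [hev, hev, Matrix.map_mul, ← hev, ← hev, hx₁0, hy₁0, hE]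
    exact Matrix.ext fun i j => eval_C.symm
  obtain ⟨c₁, hc₁, K1⟩ := exists_kill_matrix (B := B) S _ hD1 hD10
  obtain ⟨c₂, hc₂, K2⟩ := exists_kill_matrix (B := B) S _ hD2 hD20
  have k1 := (Matrix.map_sub _ (map_sub (scaleY (c₁ * c₂))) _ _).symm.trans (K1 c₂)
  have k2 := (Matrix.map_sub _ (map_sub (scaleY (c₂ * c₁))) _ _).symm.trans (K2 c₁)
  rw [mul_comm c₂ c₁] at k2
  rw [sub_eq_zero, Matrix.map_mul] at k1 k2
  refine ⟨s * (c₁ * c₂), mul_mem (mul_mem hs₁ hs₂) (mul_mem hc₁ hc₂),
    x₁.map (scaleY (c₁ * c₂)), y₁.map (scaleY (c₁ * c₂)), ?_, ?_⟩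
  · rw [k1, Matrix.map_map]
    exact congrArg (fun g => E.map g) (funext fun p => RingHom.congr_fun (scaleY_comp_shift s (c₁ * c₂)) p)
  · rw [k2, Matrix.map_map, ← RingHom.coe_comp, scaleY_comp_C]

end Local

/-- If an idempotent matrix over `A[X]` splits over every `A_m[X]`, it is equivalent to its value at zero. -/
theorem exists_equiv_eval_zero {E : Matrix ι ι A[X]} (hE : E * E = E)
    (h : ∀ (m : Ideal A) [m.IsMaximal], ∃ (n : ℕ) (u : Matrix ι (Fin n) (Localization.AtPrime m)[X])
      (v : Matrix (Fin n) ι (Localization.AtPrime m)[X]),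
        u * v = E.map (mapRingHom (algebraMap A (Localization.AtPrime m))) ∧ v * u = 1) :
    ∃ x y : Matrix ι ι A[X], x * y = E ∧ y * x = E.map (C.comp (evalRingHom 0)) := by
  have htop : patchIdeal E hE = ⊤ := by
    by_contra hne
    obtain ⟨m, hm, hle⟩ := Ideal.exists_le_maximal _ hne
    obtain ⟨n, u, v, huv, hvu⟩ := h m
    obtain ⟨s, hs, hsI⟩ := exists_mem_patchIdeal m.primeCompl hE huv hvu
    exact hs (hle hsI)
  obtain ⟨x, y, hx, hy⟩ : (1 : A) ∈ patchIdeal E hE := by rw [htop]; trivial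
  let ev : A[X][X] →+* A[X] := eval₂RingHom (C.comp (evalRingHom 0)) X
  refine ⟨x.map ev, y.map ev, ?_, ?_⟩
  · rw [← Matrix.map_mul, hx, Matrix.map_map, ← RingHom.coe_comp,
      show ev.comp (shift 1) = RingHom.id _ from ringHom_ext (fun r => by simp [ev, shift]) (by simp [ev, shift])]
    exact Matrix.ext fun i j => rfl
  · rw [← Matrix.map_mul, hy, Matrix.map_map, ← RingHom.coe_comp,
      show ev.comp C = C.comp (evalRingHom 0) from RingHom.ext fun p => by simp [ev]]

end Groth.Agent.AffHorrocks
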