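/-
The affine Horrocks theorem for modules.
-/
import Groth.Agent.AffineHorrocks.Glue
import Groth.Agent.AffineHorrocks.Patch
import Mathlib.LinearAlgebra.TensorProduct.Tower
import Mathlib.RingTheory.TensorProduct.Basic

set_option autoImplicit false
set_option linter.style.haveILetI false
set_option backward.isDefEq.respectTransparency false

universe u v w

open Polynomial Matrix LaurentPolynomial
open scoped TensorProduct

noncomputable section

namespace Groth.Agent.AffHorrocks

variable {A : Type u} [CommRing A]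

section Frame

variable {M : Type u} [AddCommGroup M] [Module A[X] M] {n : ℕ} (i : M →ₗ[A[X]] Fin n → A[X])
  (q : (Fin n → A[X]) →ₗ[A[X]] M)

/-- coordinates on the localisation -/
def coordL : A[T;T⁻¹] ⊗[A[X]] M →ₗ[A[T;T⁻¹]] Fin n → A[T;T⁻¹] :=
  LinearMap.liftBaseChange A[T;T⁻¹] (((Algebra.linearMap A[X] A[T;T⁻¹]).compLeft (Fin n)) ∘ₗ i)

/-- the retraction on the localisation -/
def retrL : (Fin n → A[T;T⁻¹]) →ₗ[A[T;T⁻¹]] A[T;T⁻¹] ⊗[A[X]] M :=
  Fintype.linearCombination A[T;T⁻¹] fun j => (1 : A[T;T⁻¹]) ⊗ₜ[A[X]] q (Pi.single j 1)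

theorem retrL_coordL (h : ∀ x, q (i x) = x) (z : A[T;T⁻¹] ⊗[A[X]] M) : retrL q (coordL i z) = z := by
  induction z with
  | zero => simp
  | add a b ha hb => simp only [map_add, ha, hb]
  | tmul c x =>
    simp only [coordL, LinearMap.liftBaseChange_tmul, map_smul, retrL, Fintype.linearCombination_apply,
      LinearMap.comp_apply, LinearMap.compLeft_apply, Function.comp_apply, Algebra.linearMap_apply]
    simp only [algebraMap_smul, ← TensorProduct.tmul_smul, ← TensorProduct.tmul_sum, ← map_smul, ← map_sum,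
      ← pi_eq_sum_univ' (i x), h, TensorProduct.smul_tmul', smul_eq_mul, mul_one]

theorem coordL_retrL (z : Fin n → A[T;T⁻¹]) :
    coordL i (retrL q z) = ((LinearMap.toMatrix' (i ∘ₗ q)).map toLaurent) *ᵥ z := by
  simp only [retrL, Fintype.linearCombination_apply, map_sum, map_smul, coordL, LinearMap.liftBaseChange_tmul,
    one_smul, LinearMap.comp_apply, LinearMap.compLeft_apply]
  funext a
  simp only [Finset.sum_apply, Pi.smul_apply, Function.comp_apply, Algebra.linearMap_apply, smul_eq_mul,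
    algebraMap_eq_toLaurent, Matrix.mulVec, dotProduct, Matrix.map_apply, LinearMap.toMatrix'_apply,
    LinearMap.comp_apply]
  exact Finset.sum_congr rfl fun j _ => mul_comm _ _

end Frame

/-- the involution `T ↦ T⁻¹` -/
abbrev σ (A : Type u) [CommRing A] : A[T;T⁻¹] →+* A[T;T⁻¹] := (invert (R := A)).toRingEquiv.toRingHom

theorem σ_σ (z : A[T;T⁻¹]) : σ A (σ A z) = z := by
  show invert (invert z) = z
  conv_lhs => rw [← invert_symm]
  exact (invert (R := A)).symm_apply_apply z

/-- coordinates of a semilinear map -/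
theorem semilinear_matrix {n m : ℕ} {V W : Type*} [AddCommGroup V] [Module A[T;T⁻¹] V] [AddCommGroup W]
    [Module A[T;T⁻¹] W] (cV : V →ₗ[A[T;T⁻¹]] Fin n → A[T;T⁻¹]) (rV : (Fin n → A[T;T⁻¹]) →ₗ[A[T;T⁻¹]] V)
    (cW : W →ₗ[A[T;T⁻¹]] Fin m → A[T;T⁻¹]) (rW : (Fin m → A[T;T⁻¹]) →ₗ[A[T;T⁻¹]] W) (hW : ∀ z, rW (cW z) = z)
    {E : Matrix (Fin n) (Fin n) A[T;T⁻¹]} (hE : ∀ z, cV (rV z) = E *ᵥ z)
    (e : V →ₛₗ[σ A] W) (e' : W →ₛₗ[σ A] V) (he : ∀ z, e' (e z) = z) :
    (Matrix.of fun a b => cV (e' (rW (Pi.single b 1))) a) *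
      (Matrix.of fun a b => cW (e (rV (Pi.single b 1))) a).map (σ A) = E := by
  refine Matrix.ext fun a b => ?_
  have h : cV (e' (rW (cW (e (rV (Pi.single b 1)))))) = E.col b := by
    rw [hW, he, hE, mulVec_single_one]
  have h2 : rW (cW (e (rV (Pi.single b 1)))) =
      ∑ l, cW (e (rV (Pi.single b 1))) l • rW (Pi.single l 1) := by
    conv_lhs => rw [pi_eq_sum_univ' (cW (e (rV (Pi.single b 1))))]
    simp only [map_sum, map_smul]
  rw [h2] at h
  have h3 := congrFun h a
  simp only [map_sum, LinearMap.map_smulₛₗ, RingHom.id_apply, Finset.sum_apply, Pi.smul_apply, smul_eq_mul,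
    Matrix.col_apply] at h3
  rw [← h3]
  simp only [Matrix.mul_apply, Matrix.of_apply, Matrix.map_apply]
  exact Finset.sum_congr rfl fun l _ => mul_comm _ _

/-- The affine Horrocks theorem, in terms of idempotent matrices. -/
theorem exists_equiv_const {ι κ : Type w} [Fintype ι] [DecidableEq ι] [Fintype κ] [DecidableEq κ]
    {E : Matrix ι ι A[X]} {F : Matrix κ κ A[X]} (hE : E * E = E) (hF : F * F = F)
    {x : Matrix ι κ A[T;T⁻¹]} {y : Matrix κ ι A[T;T⁻¹]} (hxy : x * y = E.map toLaurent)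
    (hyx : y * x = (F.map toLaurent).map (σ A)) :
    ∃ x y : Matrix ι ι A[X], x * y = E ∧ y * x = E.map (Polynomial.C.comp (evalRingHom 0)) := by
  refine exists_equiv_eval_zero hE fun m hm => ?_
  let φ := algebraMap A (Localization.AtPrime m)
  let ψ : A[T;T⁻¹] →+* (Localization.AtPrime m)[T;T⁻¹] := AddMonoidAlgebra.mapRingHom ℤ φ
  have hC : ∀ r : A, ψ (LaurentPolynomial.C r) = LaurentPolynomial.C (φ r) := fun r =>
    AddMonoidAlgebra.mapRingHom_single φ 0 r
  have hT : ∀ j : ℤ, ψ (T j) = T j := fun j => by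
    show AddMonoidAlgebra.mapRingHom ℤ φ (AddMonoidAlgebra.single j 1) = AddMonoidAlgebra.single j 1
    rw [AddMonoidAlgebra.mapRingHom_single, map_one]
  have h1 : ψ.comp toLaurent = (toLaurent).comp (mapRingHom φ) :=
    Polynomial.ringHom_ext (fun r => by simp [hC]) (by simp [hT])
  have h2 : ψ.comp (σ A) = (σ (Localization.AtPrime m)).comp ψ := by
    refine RingHom.ext fun p => ?_
    induction p using LaurentPolynomial.induction_on' with
    | add p q hp hq => rw [map_add, map_add, hp, hq]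
    | C_mul_T j a =>
      show ψ (invert (LaurentPolynomial.C a * T j)) = invert (ψ (LaurentPolynomial.C a * T j))
      simp only [map_mul, invert_C, invert_T, hC, hT]
  refine exists_split_of_glue (F := F.map (mapRingHom φ)) (by rw [← Matrix.map_mul, hE])
    (by rw [← Matrix.map_mul, hF]) (x := x.map ψ) (y := y.map ψ) ?_ ?_
  · rw [← Matrix.map_mul, hxy, Matrix.map_map, Matrix.map_map, ← RingHom.coe_comp, h1]
    rfl
  · rw [← Matrix.map_mul, hyx]
    simp only [Matrix.map_map]
    refine congrArg (fun g => F.map g) (funext fun p => ?_)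
    show (ψ.comp (σ A)) (toLaurent p) = (σ _) ((toLaurent.comp (mapRingHom φ)) p)
    rw [h2, ← h1]
    rfl

theorem extended_of_glue (M : Type u) [AddCommGroup M] [Module A[X] M] [Module.Finite A[X] M]
    [Module.Projective A[X] M] (N : Type u) [AddCommGroup N] [Module A[X] N] [Module.Finite A[X] N]
    [Module.Projective A[X] N] (e : (A[T;T⁻¹] ⊗[A[X]] M) →ₛₗ[σ A] (A[T;T⁻¹] ⊗[A[X]] N))
    (he : Function.Bijective e) :
    ∃ (P : Type u) (_ : AddCommGroup P) (_ : Module A P), Module.Finite A P ∧ Module.Projective A P ∧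
      Nonempty (M ≃ₗ[A[X]] (A[X] ⊗[A] P)) := by
  classical
  obtain ⟨n, q, i, -, -, hqi⟩ := Module.Finite.exists_comp_eq_id_of_projective A[X] M
  obtain ⟨m, q', i', -, -, hqi'⟩ := Module.Finite.exists_comp_eq_id_of_projective A[X] N
  have hi : ∀ z, q (i z) = z := fun z => DFunLike.congr_fun hqi z
  have hi' : ∀ z, q' (i' z) = z := fun z => DFunLike.congr_fun hqi' z
  let E := LinearMap.toMatrix' (i ∘ₗ q)
  let F := LinearMap.toMatrix' (i' ∘ₗ q')
  have hEv : ∀ z, E *ᵥ z = i (q z) := fun z => LinearMap.toMatrix'_mulVec _ z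
  have hE : E * E = E := by
    simp only [E, ← LinearMap.toMatrix'_comp]
    congr 1
    exact LinearMap.ext fun z => by simp [hi]
  have hF : F * F = F := by
    simp only [F, ← LinearMap.toMatrix'_comp]
    congr 1
    exact LinearMap.ext fun z => by simp [hi']
  let eq' := Equiv.ofBijective e he
  let e' : (A[T;T⁻¹] ⊗[A[X]] N) →ₛₗ[σ A] (A[T;T⁻¹] ⊗[A[X]] M) :=
    { toFun := eq'.symm
      map_add' := fun a b => he.1 (by
        show e (eq'.symm (a + b)) = e (eq'.symm a + eq'.symm b)
        rw [map_add e]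
        exact (eq'.apply_symm_apply _).trans (congrArg₂ (· + ·) (eq'.apply_symm_apply a).symm (eq'.apply_symm_apply b).symm))
      map_smul' := fun c a => he.1 (by
        show e (eq'.symm (c • a)) = e (σ A c • eq'.symm a)
        rw [LinearMap.map_smulₛₗ, σ_σ]
        exact (eq'.apply_symm_apply _).trans (congrArg (c • ·) (eq'.apply_symm_apply a).symm)) }
  let cM := coordL i
  let rM := retrL q
  let cN := coordL i'
  let rN := retrL q'
  have h1 := semilinear_matrix cM rM cN rN (retrL_coordL i' q' hi') (coordL_retrL i q) e e' eq'.symm_apply_apply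
  have h2 := semilinear_matrix cN rN cM rM (retrL_coordL i q hi) (coordL_retrL i' q') e' e eq'.apply_symm_apply
  have h3 : ((Matrix.of fun a b => cN (e (rM (Pi.single b 1))) a).map (σ A)) *
      (Matrix.of fun a b => cM (e' (rN (Pi.single b 1))) a) = (F.map toLaurent).map (σ A) := by
    rw [← h2, Matrix.map_mul]
    congr 1
    exact Matrix.ext fun a b => (σ_σ _).symm
  obtain ⟨x, y, hxy, hyx⟩ := exists_equiv_const hE hF h1 h3
  let c := evalRingHom (0 : A)
  let E₀ := E.map c
  have hE₀ : E₀ * E₀ = E₀ := by simp only [E₀, ← Matrix.map_mul, hE]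
  have hEC : E.map (Polynomial.C.comp (evalRingHom 0)) = E₀.map Polynomial.C := (Matrix.map_map ..).symm
  let P := LinearMap.range E₀.mulVecLin
  have hP : ∀ p : P, E₀ *ᵥ (p : Fin n → A) = p := by
    rintro ⟨_, z, rfl⟩
    show E₀ *ᵥ (E₀ *ᵥ z) = E₀ *ᵥ z
    rw [mulVec_mulVec, hE₀]
  let jR : A[X] ⊗[A] P →ₗ[A[X]] Fin n → A[X] :=
    LinearMap.liftBaseChange A[X] (((Algebra.linearMap A A[X]).compLeft (Fin n)) ∘ₗ P.subtype)
  let pR : (Fin n → A[X]) →ₗ[A[X]] A[X] ⊗[A] P :=
    Fintype.linearCombination A[X] fun l => (1 : A[X]) ⊗ₜ[A] E₀.mulVecLin.rangeRestrict (Pi.single l 1)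
  have hjp : ∀ z, jR (pR z) = E₀.map Polynomial.C *ᵥ z := fun z => by
    simp only [pR, Fintype.linearCombination_apply, map_sum, map_smul, jR, LinearMap.liftBaseChange_tmul, one_smul,
      LinearMap.comp_apply, LinearMap.compLeft_apply]
    funext a
    simp only [Finset.sum_apply, Pi.smul_apply, Function.comp_apply, Algebra.linearMap_apply, smul_eq_mul,
      Matrix.mulVec, dotProduct, Matrix.map_apply]
    refine Finset.sum_congr rfl fun j _ => ?_
    rw [mul_comm]
    congr 1
    show algebraMap A A[X] ((E₀ *ᵥ Pi.single j 1) a) = _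
    rw [mulVec_single_one, Matrix.col_apply]
    rfl
  have hpj : ∀ z, pR (jR z) = z := fun z => by
    induction z with
    | zero => simp
    | add a b ha hb => simp only [map_add, ha, hb]
    | tmul r p =>
      simp only [jR]
      rw [LinearMap.liftBaseChange_tmul, map_smul]
      simp only [pR, Fintype.linearCombination_apply,
        LinearMap.comp_apply, LinearMap.compLeft_apply, Function.comp_apply, Algebra.linearMap_apply, algebraMap_smul,
        ← TensorProduct.tmul_smul, ← TensorProduct.tmul_sum, ← map_smul, ← map_sum]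
      rw [show (∑ x, (P.subtype p) x • E₀.mulVecLin.rangeRestrict (Pi.single x 1)) = p by
          conv_rhs => rw [← show E₀.mulVecLin.rangeRestrict (P.subtype p) = p from Subtype.ext (hP p)]
          conv_rhs => rw [pi_eq_sum_univ' (P.subtype p)]
          simp only [map_sum, map_smul],
        TensorProduct.smul_tmul', smul_eq_mul, mul_one]
  refine ⟨P, inferInstance, inferInstance, Module.Finite.range _,
    Module.Projective.of_split P.subtype E₀.mulVecLin.rangeRestrict (LinearMap.ext fun p => Subtype.ext (hP p)),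
    ⟨LinearEquiv.ofLinear (pR ∘ₗ Matrix.mulVecLin y ∘ₗ i)
    (q ∘ₗ Matrix.mulVecLin x ∘ₗ jR) (LinearMap.ext fun z => ?_) (LinearMap.ext fun z => ?_)⟩⟩
  · show pR (y *ᵥ i (q (x *ᵥ jR z))) = z
    rw [← hEv, mulVec_mulVec, mulVec_mulVec, ← hxy,
      show y * (x * y) * x = (y * x) * (y * x) by simp only [Matrix.mul_assoc], hyx, hEC, ← Matrix.map_mul, hE₀,
      ← hjp, hpj, hpj]
  · show q (x *ᵥ jR (pR (y *ᵥ i z))) = z
    rw [hjp, mulVec_mulVec, mulVec_mulVec, ← hEC, ← hyx,
      show x * (y * x) * y = (x * y) * (x * y) by simp only [Matrix.mul_assoc], hxy, hE, hEv, hi, hi]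

theorem glue_of_extended (M : Type u) [AddCommGroup M] [Module A[X] M] (P : Type u) [AddCommGroup P] [Module A P]
    (φ : M ≃ₗ[A[X]] (A[X] ⊗[A] P)) :
    ∃ e : (A[T;T⁻¹] ⊗[A[X]] M) →ₛₗ[σ A] (A[T;T⁻¹] ⊗[A[X]] M), Function.Bijective e := by
  haveI : IsScalarTower A A[X] A[T;T⁻¹] := IsScalarTower.of_algebraMap_eq fun r => (toLaurent_C r).symm
  let Φ : A[T;T⁻¹] ⊗[A[X]] M ≃ₗ[A[T;T⁻¹]] A[T;T⁻¹] ⊗[A] P :=
    (TensorProduct.AlgebraTensorModule.congr (LinearEquiv.refl A[T;T⁻¹] A[T;T⁻¹]) φ).trans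
      (TensorProduct.AlgebraTensorModule.cancelBaseChange A A[X] A[T;T⁻¹] A[T;T⁻¹] P)
  let s := TensorProduct.congr (invert (R := A)).toLinearEquiv (LinearEquiv.refl A P)
  have hs : ∀ (c : A[T;T⁻¹]) z, s (c • z) = σ A c • s z := fun c z => by
    induction z with
    | zero => simp
    | add a b ha hb => simp only [smul_add, map_add, ha, hb]
    | tmul a p =>
      simp only [s, TensorProduct.smul_tmul', TensorProduct.congr_tmul, smul_eq_mul]
      exact congrArg (· ⊗ₜ[A] p) (map_mul (invert (R := A)) c a)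
  refine ⟨{ toFun := fun z => Φ.symm (s (Φ z))
            map_add' := fun a b => by simp only [map_add]
            map_smul' := fun c a => by rw [map_smul, hs, map_smul] }, ?_⟩
  exact Φ.symm.bijective.comp (s.bijective.comp Φ.bijective)

end Groth.Agent.AffHorrocks
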