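/-
Non-isomorphic projective modules stay non-isomorphic over `A(t)` and over `A((t))`.
-/
import Groth.Agent.AffineHorrocks.Main
import Mathlib.RingTheory.LaurentSeries
import Mathlib.RingTheory.Coprime.Lemmas

set_option autoImplicit false
set_option linter.style.haveILetI false
set_option backward.isDefEq.respectTransparency false

universe u v w

open Polynomial Matrix LaurentPolynomial
open scoped TensorProduct

noncomputable section

namespace Groth.Agent.AffHorrocks

/-- transitivity of the equivalence of idempotents -/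
theorem equiv_trans {S : Type*} [CommRing S] {m n l : Type*} [Fintype m] [Fintype n] [Fintype l] {p : Matrix m m S}
    {q : Matrix n n S} {r : Matrix l l S} (hp : p * p = p) (hr : r * r = r) {a : Matrix m n S} {b : Matrix n m S}
    (hab : a * b = p) (hba : b * a = q) {c : Matrix n l S} {d : Matrix l n S} (hcd : c * d = q) (hdc : d * c = r) :
    (a * c) * (d * b) = p ∧ (d * b) * (a * c) = r := by
  constructor
  · rw [Matrix.mul_assoc a, ← Matrix.mul_assoc c, hcd, ← hba, ← Matrix.mul_assoc, ← Matrix.mul_assoc, hab,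
      Matrix.mul_assoc, hab, hp]
  · rw [Matrix.mul_assoc d, ← Matrix.mul_assoc b, hba, ← hcd, ← Matrix.mul_assoc, ← Matrix.mul_assoc, hdc,
      Matrix.mul_assoc, hdc, hr]

section Frame

variable {R : Type u} [CommRing R] (L : Type v) [CommRing L] [Algebra R L] {M : Type w} [AddCommGroup M]
  [Module R M] {n : ℕ} (i : M →ₗ[R] Fin n → R) (q : (Fin n → R) →ₗ[R] M)

/-- coordinates on a base change -/
def coordB : L ⊗[R] M →ₗ[L] Fin n → L :=
  LinearMap.liftBaseChange L (((Algebra.linearMap R L).compLeft (Fin n)) ∘ₗ i)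

/-- the retraction on a base change -/
def retrB : (Fin n → L) →ₗ[L] L ⊗[R] M :=
  Fintype.linearCombination L fun j => (1 : L) ⊗ₜ[R] q (Pi.single j 1)

theorem retrB_coordB (h : ∀ x, q (i x) = x) (z : L ⊗[R] M) : retrB L q (coordB L i z) = z := by
  induction z with
  | zero => simp
  | add a b ha hb => simp only [map_add, ha, hb]
  | tmul c x =>
    simp only [coordB]
    rw [LinearMap.liftBaseChange_tmul, map_smul]
    simp only [retrB, Fintype.linearCombination_apply, LinearMap.comp_apply, LinearMap.compLeft_apply,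
      Function.comp_apply, Algebra.linearMap_apply, algebraMap_smul, ← TensorProduct.tmul_smul,
      ← TensorProduct.tmul_sum, ← map_smul, ← map_sum, ← pi_eq_sum_univ' (i x), h, TensorProduct.smul_tmul',
      smul_eq_mul, mul_one]

theorem coordB_retrB (z : Fin n → L) :
    coordB L i (retrB L q z) = ((LinearMap.toMatrix' (i ∘ₗ q)).map (algebraMap R L)) *ᵥ z := by
  simp only [retrB, Fintype.linearCombination_apply, map_sum, map_smul, coordB, LinearMap.liftBaseChange_tmul,
    one_smul, LinearMap.comp_apply, LinearMap.compLeft_apply]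
  funext a
  simp only [Finset.sum_apply, Pi.smul_apply, Function.comp_apply, Algebra.linearMap_apply, smul_eq_mul,
    Matrix.mulVec, dotProduct, Matrix.map_apply, LinearMap.toMatrix'_apply, LinearMap.comp_apply]
  exact Finset.sum_congr rfl fun j _ => mul_comm _ _

end Frame

variable {R : Type u} [CommRing R]

theorem frame_idem {M : Type w} [AddCommGroup M] [Module R M] {n : ℕ} {i : M →ₗ[R] Fin n → R}
    {q : (Fin n → R) →ₗ[R] M} (h : ∀ x, q (i x) = x) :
    LinearMap.toMatrix' (i ∘ₗ q) * LinearMap.toMatrix' (i ∘ₗ q) = LinearMap.toMatrix' (i ∘ₗ q) := by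
  rw [← LinearMap.toMatrix'_comp]
  exact congrArg _ (LinearMap.ext fun z => by simp [h])

/-- matrices of an isomorphism between base changes -/
theorem exists_matrices_of_equiv (L : Type v) [CommRing L] [Algebra R L] {M N : Type w} [AddCommGroup M] [Module R M]
    [AddCommGroup N] [Module R N] {n m : ℕ} {i : M →ₗ[R] Fin n → R} {q : (Fin n → R) →ₗ[R] M} (hq : ∀ x, q (i x) = x)
    {i' : N →ₗ[R] Fin m → R} {q' : (Fin m → R) →ₗ[R] N} (hq' : ∀ x, q' (i' x) = x) (e : L ⊗[R] M ≃ₗ[L] L ⊗[R] N) :
    ∃ (x : Matrix (Fin n) (Fin m) L) (y : Matrix (Fin m) (Fin n) L),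
      x * y = (LinearMap.toMatrix' (i ∘ₗ q)).map (algebraMap R L) ∧
      y * x = (LinearMap.toMatrix' (i' ∘ₗ q')).map (algebraMap R L) := by
  classical
  refine ⟨LinearMap.toMatrix' (coordB L i ∘ₗ e.symm.toLinearMap ∘ₗ retrB L q'),
    LinearMap.toMatrix' (coordB L i' ∘ₗ e.toLinearMap ∘ₗ retrB L q), ?_, ?_⟩
  all_goals refine Matrix.toLin'.injective (LinearMap.ext fun z => ?_)
  · rw [Matrix.toLin'_mul, Matrix.toLin'_toMatrix', Matrix.toLin'_toMatrix', Matrix.toLin'_apply, ← coordB_retrB]
    simp only [LinearMap.comp_apply, LinearEquiv.coe_coe, retrB_coordB L i' q' hq', e.symm_apply_apply]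
  · rw [Matrix.toLin'_mul, Matrix.toLin'_toMatrix', Matrix.toLin'_toMatrix', Matrix.toLin'_apply, ← coordB_retrB]
    simp only [LinearMap.comp_apply, LinearEquiv.coe_coe, retrB_coordB L i q hq, e.apply_symm_apply]

/-- equivalent idempotents give isomorphic modules -/
theorem nonempty_equiv_of_matrices {M N : Type w} [AddCommGroup M] [Module R M]
    [AddCommGroup N] [Module R N] {n m : ℕ} {i : M →ₗ[R] Fin n → R} {q : (Fin n → R) →ₗ[R] M} (hq : ∀ x, q (i x) = x)
    {i' : N →ₗ[R] Fin m → R} {q' : (Fin m → R) →ₗ[R] N} (hq' : ∀ x, q' (i' x) = x)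
    {x : Matrix (Fin n) (Fin m) R} {y : Matrix (Fin m) (Fin n) R} (hxy : x * y = LinearMap.toMatrix' (i ∘ₗ q))
    (hyx : y * x = LinearMap.toMatrix' (i' ∘ₗ q')) : Nonempty (M ≃ₗ[R] N) := by
  have hE : ∀ z, LinearMap.toMatrix' (i ∘ₗ q) *ᵥ z = i (q z) := fun z => LinearMap.toMatrix'_mulVec _ z
  have hF : ∀ z, LinearMap.toMatrix' (i' ∘ₗ q') *ᵥ z = i' (q' z) := fun z => LinearMap.toMatrix'_mulVec _ z
  refine ⟨LinearEquiv.ofLinear (q' ∘ₗ y.mulVecLin ∘ₗ i) (q ∘ₗ x.mulVecLin ∘ₗ i')
    (LinearMap.ext fun z => ?_) (LinearMap.ext fun z => ?_)⟩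
  · show q' (y *ᵥ i (q (x *ᵥ i' z))) = z
    rw [← hE, mulVec_mulVec, mulVec_mulVec, ← hxy,
      show y * (x * y) * x = (y * x) * (y * x) by simp only [Matrix.mul_assoc], hyx, frame_idem hq', hF, hq', hq']
  · show q (x *ᵥ i' (q' (y *ᵥ i z))) = z
    rw [← hF, mulVec_mulVec, mulVec_mulVec, ← hyx,
      show x * (y * x) * y = (x * y) * (x * y) by simp only [Matrix.mul_assoc], hxy, frame_idem hq, hE, hq, hq]

variable {A : Type u} [CommRing A] {m n : ℕ}

local notation "Cm" => fun e => Matrix.map e (Polynomial.C : A →+* A[X])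

/-- Two idempotents over `A` linked by polynomial matrices with product `X ^ (k + 1) G`, `G 0 = 1`, are
equivalent: they define a bundle on the projective line. -/
theorem exists_equiv_of_coprime {e : Matrix (Fin n) (Fin n) A} {e' : Matrix (Fin m) (Fin m) A} (he : e * e = e)
    (he' : e' * e' = e') {a : Matrix (Fin n) (Fin m) A[X]} {b : Matrix (Fin m) (Fin n) A[X]} {k : ℕ} {G : A[X]}
    (hG : G.eval 0 = 1) (hab : a * b = (Polynomial.X ^ (k + 1) * G) • Cm e)
    (hba : b * a = (Polynomial.X ^ (k + 1) * G) • Cm e') (hea : Cm e * a = a) (hae : a * Cm e' = a)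
    (heb : Cm e' * b = b) (hbe : b * Cm e = b) :
    ∃ (x : Matrix (Fin n) (Fin m) A) (y : Matrix (Fin m) (Fin n) A), x * y = e ∧ y * x = e' := by
  classical
  simp only at hab hba hea hae heb hbe
  set S : A[X] := Polynomial.X ^ (k + 1) with hS
  set c := e.map (Polynomial.C : A →+* A[X]) with hc
  set c' := e'.map (Polynomial.C : A →+* A[X]) with hc'
  have hcc : c * c = c := by rw [hc, ← Matrix.map_mul, he]
  have hcc' : c' * c' = c' := by rw [hc', ← Matrix.map_mul, he']
  obtain ⟨α, β, hαβ⟩ : IsCoprime S G := by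
    refine IsCoprime.pow_left ⟨-G.divX, 1, ?_⟩
    have h := G.X_mul_divX_add
    rw [coeff_zero_eq_eval_zero, hG, map_one] at h
    linear_combination (-1 : A[X]) * h
  set F := fromBlocks ((α * S) • c) (β • a) (α • b) ((β * G) • c') with hF
  have hFF : F * F = F := by
    rw [hF, fromBlocks_multiply]
    simp only [Matrix.smul_mul, Matrix.mul_smul, smul_smul, hcc, hcc', hab, hba, hea, hae, heb, hbe, ← add_smul]
    congr 1
    · congr 1; linear_combination (α * S) * hαβ
    · congr 1; linear_combination β * hαβ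
    · congr 1; linear_combination α * hαβ
    · congr 1; linear_combination (β * G) * hαβ
  let t : A[T;T⁻¹] := T (-(k + 1 : ℕ) : ℤ)
  have hSt : toLaurent S * t = 1 := by
    rw [hS, toLaurent_X_pow, ← T_add, add_neg_cancel, T_zero]
  let up : A[X] →+* A[T;T⁻¹] := toLaurent
  let x : Matrix (Fin n ⊕ Fin m) (Fin n) A[T;T⁻¹] := fromRows (up S • c.map up) (b.map up)
  let y : Matrix (Fin n) (Fin n ⊕ Fin m) A[T;T⁻¹] := fromCols (up α • c.map up) ((up β * t) • a.map up)
  have hsm : ∀ {p q : Type} (r : A[X]) (P : Matrix p q A[X]), (r • P).map up = up r • P.map up :=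
    fun r P => Matrix.ext fun i j => by simp
  have hxy : x * y = F.map up := by
    simp only [x, y, fromRows_mul_fromCols, hF, fromBlocks_map, hsm, Matrix.smul_mul, Matrix.mul_smul, smul_smul,
      ← Matrix.map_mul, hcc, hea, hbe, hba, map_mul]
    congr 1
    · congr 1; linear_combination (up β) * hSt
    · congr 1; linear_combination (up β * up G) * hSt
  have hyx : y * x = (c.map up).map (σ A) := by
    have h0 : (c.map up).map (σ A) = c.map up := Matrix.ext fun i j => by
      simp only [hc, Matrix.map_apply, up, toLaurent_C]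
      exact invert_C _
    rw [h0]
    simp only [x, y, fromCols_mul_fromRows, Matrix.smul_mul, Matrix.mul_smul, smul_smul, ← Matrix.map_mul, hcc, hab,
      hsm, ← add_smul, map_mul]
    rw [show up S * up α + up β * t * (up S * up G) = (1 : A[T;T⁻¹]) from ?_, one_smul]
    calc up S * up α + up β * t * (up S * up G) = up (α * S) + up (β * G) * (up S * t) := by
          rw [map_mul, map_mul]; ring
      _ = 1 := by rw [show up S * t = 1 from hSt, mul_one, ← map_add, hαβ, map_one]
  obtain ⟨u, v, huv, hvu⟩ := exists_equiv_const hFF hcc hxy hyx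
  -- specialise at `1` and at `0`
  let ev : A → A[X] →+* A := fun r => evalRingHom r
  have hmap : ∀ (r : A), F.map (ev r) = fromBlocks ((ev r α * ev r S) • e) (ev r β • a.map (ev r))
      (ev r α • b.map (ev r)) ((ev r β * ev r G) • e') := fun r => by
    rw [hF, fromBlocks_map]
    congr 1 <;> refine Matrix.ext fun i j => ?_ <;> simp [hc, hc', ev]
  have hCm : ∀ (r : A) {p q : Type} (P : Matrix p q A), (P.map Polynomial.C).map (ev r) = P :=
    fun r _ _ P => Matrix.ext fun i j => by simp [ev]
  have hsmev : ∀ (r : A) {p q : Type} (s : A[X]) (P : Matrix p q A[X]), (s • P).map (ev r) = ev r s • P.map (ev r) :=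
    fun r _ _ s P => Matrix.ext fun i j => by simp
  have hab' : ∀ r, a.map (ev r) * b.map (ev r) = (ev r S * ev r G) • e := fun r => by
    rw [← Matrix.map_mul, hab, hsmev, map_mul, hc, hCm]
  have hba' : ∀ r, b.map (ev r) * a.map (ev r) = (ev r S * ev r G) • e' := fun r => by
    rw [← Matrix.map_mul, hba, hsmev, map_mul, hc', hCm]
  have hea' : ∀ r, e * a.map (ev r) = a.map (ev r) := fun r => by
    conv_rhs => rw [← hea]
    rw [Matrix.map_mul, hc, hCm]
  have hbe' : ∀ r, b.map (ev r) * e = b.map (ev r) := fun r => by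
    conv_rhs => rw [← hbe]
    rw [Matrix.map_mul, hc, hCm]
  have hae' : ∀ r, a.map (ev r) * e' = a.map (ev r) := fun r => by
    conv_rhs => rw [← hae]
    rw [Matrix.map_mul, hc', hCm]
  have heb' : ∀ r, e' * b.map (ev r) = b.map (ev r) := fun r => by
    conv_rhs => rw [← heb]
    rw [Matrix.map_mul, hc', hCm]
  have hαβ' : ∀ r, ev r α * ev r S + ev r β * ev r G = 1 := fun r => by rw [← map_mul, ← map_mul, ← map_add, hαβ, map_one]
  have hS1 : ev 1 S = 1 := by simp [ev, hS]
  have hS0 : ev 0 S = 0 := by simp [ev, hS]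
  have hG0 : ev 0 G = 1 := hG
  have hβ0 : ev 0 β = 1 := by simpa [hS0, hG0] using hαβ' 0
  let X1 : Matrix (Fin n) (Fin n ⊕ Fin m) A := fromCols (ev 1 α • e) (ev 1 β • a.map (ev 1))
  let Y1 : Matrix (Fin n ⊕ Fin m) (Fin n) A := fromRows e (b.map (ev 1))
  have h1 : X1 * Y1 = e := by
    simp only [X1, Y1, fromCols_mul_fromRows, Matrix.smul_mul, he, hab', smul_smul, ← add_smul]
    rw [show ev 1 α + ev 1 β * (ev 1 S * ev 1 G) = (1 : A) by have := hαβ' 1; rw [hS1] at this ⊢; simpa using this,
      one_smul]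
  have h1' : Y1 * X1 = F.map (ev 1) := by
    simp only [X1, Y1, fromRows_mul_fromCols, hmap, Matrix.mul_smul, he, hea', hbe', hba', smul_smul, hS1, mul_one, one_mul]
  let X0 : Matrix (Fin n ⊕ Fin m) (Fin m) A := fromRows (a.map (ev 0)) e'
  let Y0 : Matrix (Fin m) (Fin n ⊕ Fin m) A := fromCols (ev 0 α • b.map (ev 0)) e'
  have h0 : X0 * Y0 = F.map (ev 0) := by
    simp only [X0, Y0, fromRows_mul_fromCols, hmap, Matrix.mul_smul, hab', hae', heb', he', smul_smul, hS0, hG0, hβ0,
      zero_mul, mul_zero, zero_smul, smul_zero, one_smul, one_mul]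
  have h0' : Y0 * X0 = e' := by
    simp only [X0, Y0, fromCols_mul_fromRows, Matrix.smul_mul, hba', he', hS0, zero_mul, mul_zero, zero_smul, smul_zero, zero_add]
  have hu1 : u.map (ev 1) * v.map (ev 1) = F.map (ev 1) := by rw [← Matrix.map_mul, huv]
  have hv1 : v.map (ev 1) * u.map (ev 1) = F.map (ev 0) := by
    rw [← Matrix.map_mul, hvu, Matrix.map_map]
    exact Matrix.ext fun i j => by simp [ev]
  have hF0 : F.map (ev 0) * F.map (ev 0) = F.map (ev 0) := by rw [← Matrix.map_mul, hFF]
  obtain ⟨hp, hq⟩ := equiv_trans he hF0 h1 h1' hu1 hv1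
  obtain ⟨hp', hq'⟩ := equiv_trans he he' hp hq h0 h0'
  exact ⟨_, _, hp', hq'⟩

/-- Idempotents over `A` that become equivalent after inverting a monic polynomial are equivalent. -/
theorem exists_equiv_of_monic {e : Matrix (Fin n) (Fin n) A} {e' : Matrix (Fin m) (Fin m) A} (he : e * e = e)
    (he' : e' * e' = e') {a : Matrix (Fin n) (Fin m) A[X]} {b : Matrix (Fin m) (Fin n) A[X]} {F : A[X]}
    (hFm : F.Monic) (hab : a * b = (F * F) • Cm e) (hba : b * a = (F * F) • Cm e') (hea : Cm e * a = a)
    (hae : a * Cm e' = a) (heb : Cm e' * b = b) (hbe : b * Cm e = b) :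
    ∃ (x : Matrix (Fin n) (Fin m) A) (y : Matrix (Fin m) (Fin n) A), x * y = e ∧ y * x = e' := by
  simp only at hab hba hea hae heb hbe
  let ψ : A[X] →+* A[T;T⁻¹] := (σ A).comp toLaurent
  obtain ⟨p, a₁, ha₁⟩ := exists_clear (a.map ψ)
  obtain ⟨q, b₁, hb₁⟩ := exists_clear (b.map ψ)
  let D := F.natDegree
  have hψC : ∀ {l : ℕ} (P : Matrix (Fin l) (Fin l) A), (P.map Polynomial.C).map toLaurent = (P.map Polynomial.C).map ψ :=
    fun P => Matrix.ext fun i j => by
      simp only [Matrix.map_apply, ψ, RingHom.comp_apply, toLaurent_C]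
      exact (invert_C _).symm
  have hinj : ∀ {p q : ℕ} {P Q : Matrix (Fin p) (Fin q) A[X]}, P.map toLaurent = Q.map toLaurent → P = Q :=
    fun h => Matrix.map_injective toLaurent_injective h
  have hsm : ∀ {p q : ℕ} (r : A[X]) (P : Matrix (Fin p) (Fin q) A[X]), (r • P).map toLaurent = toLaurent r • P.map toLaurent :=
    fun r P => Matrix.ext fun i j => by simp
  have hsmψ : ∀ {p q : ℕ} (r : A[X]) (P : Matrix (Fin p) (Fin q) A[X]), (r • P).map ψ = ψ r • P.map ψ :=
    fun r P => Matrix.ext fun i j => by simp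
  have hrev : ψ F * T (D : ℤ) = toLaurent F.reverse := by rw [toLaurent_reverse]; rfl
  have hG : (F.reverse * F.reverse).eval 0 = 1 := by
    rw [eval_mul, ← coeff_zero_eq_eval_zero, coeff_zero_reverse, hFm.leadingCoeff, one_mul]
  let w : A[X] := Polynomial.X ^ (D + 1)
  have key : (toLaurent w * T (p : ℤ)) * (toLaurent w * T (q : ℤ)) * (ψ F * ψ F) =
      toLaurent (Polynomial.X ^ (p + q + 1 + 1) * (F.reverse * F.reverse)) := by
    simp only [w, map_mul, toLaurent_X_pow, ← hrev, Nat.cast_add, T_add]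
    ring
  refine exists_equiv_of_coprime he he' (a := w • a₁) (b := w • b₁) (k := p + q + 1) hG (hinj ?_) (hinj ?_)
    (hinj ?_) (hinj ?_) (hinj ?_) (hinj ?_)
  · rw [Matrix.map_mul, hsm, hsm, hsm, ha₁, hb₁, smul_smul, smul_smul, Matrix.smul_mul, Matrix.mul_smul, smul_smul,
      ← Matrix.map_mul, hab, hsmψ, smul_smul, map_mul, key, hψC]
  · rw [Matrix.map_mul, hsm, hsm, hsm, ha₁, hb₁, smul_smul, smul_smul, Matrix.smul_mul, Matrix.mul_smul, smul_smul,
      ← Matrix.map_mul, hba, hsmψ, smul_smul, map_mul ψ, mul_comm (toLaurent w * T (q : ℤ)), key, hψC]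
  · rw [Matrix.map_mul, hsm, ha₁, hψC, Matrix.mul_smul, Matrix.mul_smul, ← Matrix.map_mul, hea]
  · rw [Matrix.map_mul, hsm, ha₁, hψC, Matrix.smul_mul, Matrix.smul_mul, ← Matrix.map_mul, hae]
  · rw [Matrix.map_mul, hsm, hb₁, hψC, Matrix.mul_smul, Matrix.mul_smul, ← Matrix.map_mul, heb]
  · rw [Matrix.map_mul, hsm, hb₁, hψC, Matrix.smul_mul, Matrix.smul_mul, ← Matrix.map_mul, hbe]

theorem exists_powerSeries_matrices {e : Matrix (Fin n) (Fin n) A} {e' : Matrix (Fin m) (Fin m) A} (he : e * e = e)
    (he' : e' * e' = e') {x : Matrix (Fin n) (Fin m) (LaurentSeries A)} {y : Matrix (Fin m) (Fin n) (LaurentSeries A)}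
    (hxy : x * y = e.map HahnSeries.C) (hyx : y * x = e'.map HahnSeries.C) :
    ∃ (N : ℕ) (xp : Matrix (Fin n) (Fin m) (PowerSeries A)) (yp : Matrix (Fin m) (Fin n) (PowerSeries A)), 0 < N ∧
      xp * yp = (PowerSeries.X ^ (2 * N) : PowerSeries A) • e.map (PowerSeries.C : A →+* PowerSeries A) ∧
      yp * xp = (PowerSeries.X ^ (2 * N) : PowerSeries A) • e'.map (PowerSeries.C : A →+* PowerSeries A) ∧
      e.map (PowerSeries.C : A →+* PowerSeries A) * xp * e'.map (PowerSeries.C : A →+* PowerSeries A) = xp ∧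
      e'.map (PowerSeries.C : A →+* PowerSeries A) * yp * e.map (PowerSeries.C : A →+* PowerSeries A) = yp := by
  classical
  let HC : A →+* LaurentSeries A := HahnSeries.C
  replace hxy : x * y = e.map HC := hxy
  replace hyx : y * x = e'.map HC := hyx
  let up : PowerSeries A →+* LaurentSeries A := HahnSeries.ofPowerSeries ℤ A
  have hclear : ∀ {p q : ℕ} (P : Matrix (Fin p) (Fin q) (LaurentSeries A)), ∃ N : ℕ, ∀ N' ≥ N,
      ∃ Q : Matrix (Fin p) (Fin q) (PowerSeries A), Q.map up = up (PowerSeries.X ^ N') • P := by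
    intro p q P
    refine ⟨Finset.univ.sup fun ij : Fin p × Fin q => (-(P ij.1 ij.2).order).toNat, fun N' hN => ?_⟩
    refine ⟨Matrix.of fun i j => (LaurentSeries.powerSeriesPart (P i j)) *
      PowerSeries.X ^ ((N' : ℤ) + (P i j).order).toNat, Matrix.ext fun i j => ?_⟩
    have h1 : (-(P i j).order).toNat ≤ N' :=
      (Finset.le_sup (f := fun ij : Fin p × Fin q => (-(P ij.1 ij.2).order).toNat) (Finset.mem_univ (i, j))).trans hN
    simp only [Matrix.map_apply, Matrix.of_apply, map_mul, Matrix.smul_apply, smul_eq_mul, up,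
      LaurentSeries.ofPowerSeries_powerSeriesPart, HahnSeries.ofPowerSeries_X_pow]
    rw [mul_right_comm, HahnSeries.single_mul_single, one_mul]
    rw [Int.toNat_of_nonneg (by omega), neg_add_cancel_comm_assoc]
  obtain ⟨N₁, hN₁⟩ := hclear (e.map HC * x * e'.map HC)
  obtain ⟨N₂, hN₂⟩ := hclear (e'.map HC * y * e.map HC)
  let N := max N₁ N₂ + 1
  obtain ⟨xp, hxp⟩ := hN₁ N (by omega)
  obtain ⟨yp, hyp⟩ := hN₂ N (by omega)
  let cP : A →+* PowerSeries A := PowerSeries.C
  have hinj : ∀ {p q : ℕ} {P Q : Matrix (Fin p) (Fin q) (PowerSeries A)}, P.map up = Q.map up → P = Q :=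
    fun h => Matrix.map_injective HahnSeries.ofPowerSeries_injective h
  have hupC : ∀ {p : ℕ} (P : Matrix (Fin p) (Fin p) A), (P.map cP).map up = P.map HC :=
    fun P => Matrix.ext fun i j => HahnSeries.ofPowerSeries_C _
  have hprod : xp * yp = (PowerSeries.X ^ (2 * N) : PowerSeries A) • e.map cP := by
    refine hinj ?_
    rw [Matrix.map_mul, hxp, hyp, Matrix.smul_mul, Matrix.mul_smul, smul_smul, ← map_mul, ← pow_add, ← two_mul]
    rw [show e.map HC * x * e'.map HC * (e'.map HC * y * e.map HC) =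
      e.map HC from ?_]
    · conv_rhs => rw [show ((PowerSeries.X ^ (2 * N) : PowerSeries A) • e.map cP).map up =
        up (PowerSeries.X ^ (2 * N)) • (e.map cP).map up from Matrix.ext fun i j => by simp, hupC]
    · calc e.map HC * x * e'.map HC * (e'.map HC * y * e.map HC)
          = e.map HC * x * (e'.map HC * e'.map HC) * y * e.map HC := by
            simp only [Matrix.mul_assoc]
        _ = e.map HC * (x * y * (x * y)) * e.map HC := by
            rw [← Matrix.map_mul, he', ← hyx]; simp only [Matrix.mul_assoc]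
        _ = _ := by simp only [hxy, ← Matrix.map_mul, he]
  have hprod' : yp * xp = (PowerSeries.X ^ (2 * N) : PowerSeries A) • e'.map cP := by
    refine hinj ?_
    rw [Matrix.map_mul, hxp, hyp, Matrix.smul_mul, Matrix.mul_smul, smul_smul, ← map_mul, ← pow_add, ← two_mul]
    rw [show e'.map HC * y * e.map HC * (e.map HC * x * e'.map HC) =
      e'.map HC from ?_]
    · conv_rhs => rw [show ((PowerSeries.X ^ (2 * N) : PowerSeries A) • e'.map cP).map up =
        up (PowerSeries.X ^ (2 * N)) • (e'.map cP).map up from Matrix.ext fun i j => by simp, hupC]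
    · calc e'.map HC * y * e.map HC * (e.map HC * x * e'.map HC)
          = e'.map HC * y * (e.map HC * e.map HC) * x * e'.map HC := by
            simp only [Matrix.mul_assoc]
        _ = e'.map HC * (y * x * (y * x)) * e'.map HC := by
            rw [← Matrix.map_mul, he, ← hxy]; simp only [Matrix.mul_assoc]
        _ = _ := by simp only [hyx, ← Matrix.map_mul, he']
  have hxe : e.map cP * xp * e'.map cP = xp := hinj (by
    rw [Matrix.map_mul, Matrix.map_mul, hupC, hupC, hxp, Matrix.mul_smul, Matrix.smul_mul]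
    refine congrArg (up (PowerSeries.X ^ N) • ·) ?_
    calc e.map HC * (e.map HC * x * e'.map HC) * e'.map HC
        = e.map HC * e.map HC * x * (e'.map HC * e'.map HC) := by
          simp only [Matrix.mul_assoc]
      _ = _ := by rw [← Matrix.map_mul, ← Matrix.map_mul, he, he'])
  have hye : e'.map cP * yp * e.map cP = yp := hinj (by
    rw [Matrix.map_mul, Matrix.map_mul, hupC, hupC, hyp, Matrix.mul_smul, Matrix.smul_mul]
    refine congrArg (up (PowerSeries.X ^ N) • ·) ?_
    calc e'.map HC * (e'.map HC * y * e.map HC) * e.map HC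
        = e'.map HC * e'.map HC * y * (e.map HC * e.map HC) := by
          simp only [Matrix.mul_assoc]
      _ = _ := by rw [← Matrix.map_mul, ← Matrix.map_mul, he, he'])
  exact ⟨N, xp, yp, Nat.succ_pos _, hprod, hprod', hxe, hye⟩

/-- reduction of power series modulo a power of `X` -/
abbrev redX (N : ℕ) : PowerSeries A →+* PowerSeries A ⧸ Ideal.span {(PowerSeries.X ^ N : PowerSeries A)} :=
  Ideal.Quotient.mk _

theorem exists_factor {l : ℕ} (N : ℕ) (P : Matrix (Fin l) (Fin l) A[X]) (d : Matrix (Fin l) (Fin l) A) (hd : d * d = d)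
    (hdP : d.map Polynomial.C * P = P) (hPd : P * d.map Polynomial.C = P)
    (hP : (P.map (Polynomial.coeToPowerSeries.ringHom : A[X] →+* PowerSeries A)).map (redX (A := A) (2 * N + 1)) =
      ((PowerSeries.X ^ (2 * N) : PowerSeries A) • d.map (PowerSeries.C : A →+* PowerSeries A)).map (redX (2 * N + 1))) :
    ∃ H : Matrix (Fin l) (Fin l) A[X], H.det.eval 0 = 1 ∧
      P = (Polynomial.X ^ (2 * N) : A[X]) • (d.map Polynomial.C * H) ∧
      d.map Polynomial.C * H = H * d.map Polynomial.C := by
  classical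
  let co : A[X] →+* PowerSeries A := Polynomial.coeToPowerSeries.ringHom
  let cP : A →+* PowerSeries A := PowerSeries.C
  let M : A[X] := Polynomial.X ^ (2 * N)
  have h : ∀ i j, ∃ z, P i j - M * Polynomial.C (d i j) = M * (Polynomial.X * z) := fun i j => by
    obtain ⟨z, hz⟩ : Polynomial.X ^ (2 * N + 1) ∣ P i j - M * Polynomial.C (d i j) := by
      refine Polynomial.X_pow_dvd_iff.2 fun l hl => ?_
      have h1 := congrFun (congrFun hP i) j
      simp only [Matrix.map_apply, Matrix.smul_apply, smul_eq_mul] at h1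
      have h2 := PowerSeries.X_pow_dvd_iff.1 (Ideal.mem_span_singleton.1 (Ideal.Quotient.eq.1 h1)) l hl
      rw [show (co (P i j) - PowerSeries.X ^ (2 * N) * cP (d i j)) =
        co (P i j - M * Polynomial.C (d i j)) by simp only [co, cP, M, map_sub, map_mul, coeToPowerSeries.ringHom_apply, Polynomial.coe_pow, Polynomial.coe_X, Polynomial.coe_C]] at h2
      simpa [co] using h2
    exact ⟨z, by rw [hz, pow_succ, mul_assoc]⟩
  choose z hz using h
  set K := d.map (Polynomial.C : A →+* A[X]) with hK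
  have hKK : K * K = K := by rw [hK, ← Matrix.map_mul, hd]
  let Z : Matrix (Fin l) (Fin l) A[X] := Matrix.of z
  have hPZ : P = M • (K + (Polynomial.X : A[X]) • (K * Z * K)) := by
    have h1 : P = M • (K + (Polynomial.X : A[X]) • Z) := Matrix.ext fun i j => by
      simp only [Matrix.smul_apply, Matrix.add_apply, smul_eq_mul, Z, Matrix.of_apply, hK, Matrix.map_apply,
        mul_add]
      linear_combination hz i j
    calc P = K * P * K := by rw [hdP, hPd]
      _ = _ := by
        rw [h1]
        simp only [Matrix.mul_smul, Matrix.smul_mul, Matrix.mul_add, Matrix.add_mul, hKK]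
  refine ⟨1 + (Polynomial.X : A[X]) • (K * Z * K), ?_, ?_, ?_⟩
  · rw [← coe_evalRingHom, RingHom.map_det, RingHom.mapMatrix_apply,
      show (1 + (Polynomial.X : A[X]) • (K * Z * K)).map (evalRingHom 0) = 1 from Matrix.ext fun i j => by
        by_cases hij : i = j <;> simp [hij, Matrix.one_apply], det_one]
  · rw [hPZ, Matrix.mul_add, Matrix.mul_one, Matrix.mul_smul]
    simp only [← Matrix.mul_assoc, hKK, M]
  · simp only [Matrix.mul_add, Matrix.add_mul, Matrix.mul_one, Matrix.one_mul, Matrix.mul_smul, Matrix.smul_mul,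
      Matrix.mul_assoc, hKK]
    simp only [← Matrix.mul_assoc, hKK]

theorem exists_poly_matrices {e : Matrix (Fin n) (Fin n) A} {e' : Matrix (Fin m) (Fin m) A} (he : e * e = e)
    (he' : e' * e' = e') (N : ℕ) {xp : Matrix (Fin n) (Fin m) (PowerSeries A)} {yp : Matrix (Fin m) (Fin n) (PowerSeries A)}
    (hprod : xp * yp = (PowerSeries.X ^ (2 * N) : PowerSeries A) • e.map (PowerSeries.C : A →+* PowerSeries A))
    (hprod' : yp * xp = (PowerSeries.X ^ (2 * N) : PowerSeries A) • e'.map (PowerSeries.C : A →+* PowerSeries A))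
    (hxe : e.map (PowerSeries.C : A →+* PowerSeries A) * xp * e'.map (PowerSeries.C : A →+* PowerSeries A) = xp)
    (hye : e'.map (PowerSeries.C : A →+* PowerSeries A) * yp * e.map (PowerSeries.C : A →+* PowerSeries A) = yp) :
    ∃ (a : Matrix (Fin n) (Fin m) A[X]) (b : Matrix (Fin m) (Fin n) A[X]) (H : Matrix (Fin n) (Fin n) A[X])
      (K : Matrix (Fin m) (Fin m) A[X]), e.map Polynomial.C * a = a ∧ a * e'.map Polynomial.C = a ∧
      e'.map Polynomial.C * b = b ∧ b * e.map Polynomial.C = b ∧ H.det.eval 0 = 1 ∧ K.det.eval 0 = 1 ∧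
      a * b = (Polynomial.X ^ (2 * N) : A[X]) • (e.map Polynomial.C * H) ∧
      b * a = (Polynomial.X ^ (2 * N) : A[X]) • (e'.map Polynomial.C * K) ∧
      e'.map Polynomial.C * K = K * e'.map Polynomial.C := by
  classical
  let cP : A →+* PowerSeries A := PowerSeries.C
  -- polynomial approximations
  let co : A[X] →+* PowerSeries A := Polynomial.coeToPowerSeries.ringHom
  let tr : PowerSeries A → A[X] := PowerSeries.trunc (2 * N + 1)
  let c := e.map (Polynomial.C : A →+* A[X])
  let c' := e'.map (Polynomial.C : A →+* A[X])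
  have hcc : c * c = c := by simp only [c, ← Matrix.map_mul, he]
  have hcc' : c' * c' = c' := by simp only [c', ← Matrix.map_mul, he']
  let r : PowerSeries A →+* PowerSeries A ⧸ Ideal.span {(PowerSeries.X ^ (2 * N + 1) : PowerSeries A)} :=
    Ideal.Quotient.mk _
  have htr : ∀ {p q : ℕ} (P : Matrix (Fin p) (Fin q) (PowerSeries A)), ((P.map tr).map co).map r = P.map r := by
    intro p q P
    refine Matrix.ext fun i j => Ideal.Quotient.eq.2 (Ideal.mem_span_singleton.2 (PowerSeries.X_pow_dvd_iff.2 fun l hl => ?_))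
    simp [co, tr, PowerSeries.coeff_trunc, hl]
  have hcoC : ∀ {p : ℕ} (P : Matrix (Fin p) (Fin p) A), (P.map Polynomial.C).map co = P.map cP :=
    fun P => Matrix.ext fun i j => by simp [co, cP]
  let a := c * xp.map tr * c'
  let b := c' * yp.map tr * c
  have har : (a.map co).map r = xp.map r := by
    conv_rhs => rw [← hxe]
    simp only [a, c, c', cP, Matrix.map_mul, hcoC, htr]
  have hbr : (b.map co).map r = yp.map r := by
    conv_rhs => rw [← hye]
    simp only [b, c, c', cP, Matrix.map_mul, hcoC, htr]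
  have hca : c * a = a := by simp only [a, ← Matrix.mul_assoc, hcc]
  have hac : a * c' = a := by simp only [a, Matrix.mul_assoc, hcc']
  have hcb : c' * b = b := by simp only [b, ← Matrix.mul_assoc, hcc']
  have hbc : b * c = b := by simp only [b, Matrix.mul_assoc, hcc]
  obtain ⟨H, hH0, hab, -⟩ := exists_factor N (a * b) e he
    (by show c * (a * b) = a * b; rw [← Matrix.mul_assoc, hca]) (by show a * b * c = a * b; rw [Matrix.mul_assoc, hbc])
    (by show ((a * b).map co).map r = _; rw [Matrix.map_mul, Matrix.map_mul, har, hbr, ← Matrix.map_mul, hprod])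
  obtain ⟨K, hK0, hba, hKc⟩ := exists_factor N (b * a) e' he'
    (by show c' * (b * a) = b * a; rw [← Matrix.mul_assoc, hcb]) (by show b * a * c' = b * a; rw [Matrix.mul_assoc, hac])
    (by show ((b * a).map co).map r = _; rw [Matrix.map_mul, Matrix.map_mul, hbr, har, ← Matrix.map_mul, hprod'])
  exact ⟨a, b, H, K, hca, hac, hcb, hbc, hH0, hK0, hab, hba, hKc⟩

/-- Idempotents over `A` that become equivalent over `A((t))` are equivalent. -/
theorem exists_equiv_of_laurentSeries {e : Matrix (Fin n) (Fin n) A} {e' : Matrix (Fin m) (Fin m) A} (he : e * e = e)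
    (he' : e' * e' = e') {x : Matrix (Fin n) (Fin m) (LaurentSeries A)} {y : Matrix (Fin m) (Fin n) (LaurentSeries A)}
    (hxy : x * y = e.map HahnSeries.C) (hyx : y * x = e'.map HahnSeries.C) :
    ∃ (x : Matrix (Fin n) (Fin m) A) (y : Matrix (Fin m) (Fin n) A), x * y = e ∧ y * x = e' := by
  classical
  obtain ⟨N, xp, yp, hNpos, hprod, hprod', hxe, hye⟩ := exists_powerSeries_matrices he he' hxy hyx
  obtain ⟨a, b, H, K, hca, hac, hcb, hbc, hH0, hK0, hab, hba, hKc⟩ :=
    exists_poly_matrices he he' N hprod hprod' hxe hye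
  let co : A[X] →+* PowerSeries A := Polynomial.coeToPowerSeries.ringHom
  let c := e.map (Polynomial.C : A →+* A[X])
  let c' := e'.map (Polynomial.C : A →+* A[X])
  replace hca : c * a = a := hca
  replace hac : a * c' = a := hac
  replace hcb : c' * b = b := hcb
  replace hbc : b * c = b := hbc
  replace hab : a * b = (Polynomial.X ^ (2 * N) : A[X]) • (c * H) := hab
  replace hba : b * a = (Polynomial.X ^ (2 * N) : A[X]) • (c' * K) := hba
  have hcc : c * c = c := by simp only [c, ← Matrix.map_mul, he]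
  have hcc' : c' * c' = c' := by simp only [c', ← Matrix.map_mul, he']
  let M : A[X] := Polynomial.X ^ (2 * N)
  let b₂ := c' * (b * H.adjugate) * c
  have hMreg : ∀ {p q : ℕ} {P Q : Matrix (Fin p) (Fin q) A[X]}, M • P = M • Q → P = Q :=
    fun h => smul_cancel (monic_X_pow _) h
  have hbH : b * H = K * b := hMreg (by
    calc M • (b * H) = b * (M • (c * H)) := by
          rw [Matrix.mul_smul, ← Matrix.mul_assoc, hbc]
      _ = b * a * b := by rw [← hab]; simp only [Matrix.mul_assoc]
      _ = M • (K * b) := by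
          rw [hba]
          change M • (c' * K) * b = _
          rw [show c' * K = K * c' from hKc, Matrix.smul_mul, Matrix.mul_assoc, hcb])
  let g := H.det
  let g' := K.det
  have hKb : g' • (b * H.adjugate) = g • (K.adjugate * b) := by
    calc g' • (b * H.adjugate) = K.adjugate * K * (b * H.adjugate) := by
          rw [adjugate_mul, Matrix.smul_mul, Matrix.one_mul]
      _ = K.adjugate * (b * H) * H.adjugate := by rw [hbH]; simp only [Matrix.mul_assoc]
      _ = g • (K.adjugate * b) := by
          rw [Matrix.mul_assoc, Matrix.mul_assoc b H, mul_adjugate, Matrix.mul_smul, Matrix.mul_one, Matrix.mul_smul]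
  have hg' : ∀ {p q : ℕ} {P Q : Matrix (Fin p) (Fin q) A[X]}, g' • P = g' • Q → P = Q := fun {p q P Q} h => by
    obtain ⟨w, hw⟩ : IsUnit (co g') := by
      rw [PowerSeries.isUnit_iff_constantCoeff, show PowerSeries.constantCoeff (co g') = 1 from ?_]
      · exact isUnit_one
      · rw [← PowerSeries.coeff_zero_eq_constantCoeff_apply]
        simp only [co, coeToPowerSeries.ringHom_apply, Polynomial.coeff_coe, coeff_zero_eq_eval_zero]
        exact hK0
    refine Matrix.ext fun i j => Polynomial.coe_injective A ?_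
    have h1 := congrArg co (congrFun (congrFun h i) j)
    simp only [Matrix.smul_apply, smul_eq_mul, map_mul, ← hw] at h1
    exact (Units.mul_right_inj w).1 h1
  have hb₂a : b * H.adjugate * a = (M * g) • c' := hg' (by
    rw [← Matrix.smul_mul, hKb, Matrix.smul_mul, Matrix.mul_assoc, hba]
    change g • (K.adjugate * (M • (c' * K))) = _
    rw [show c' * K = K * c' from hKc, Matrix.mul_smul, ← Matrix.mul_assoc, adjugate_mul, Matrix.smul_mul,
      Matrix.one_mul, smul_smul, smul_smul, smul_smul]
    congr 1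
    ring)
  have hab₂ : a * (b * H.adjugate) = (M * g) • c := by
    rw [← Matrix.mul_assoc, hab]
    change (M • (c * H)) * H.adjugate = _
    rw [Matrix.smul_mul, Matrix.mul_assoc, mul_adjugate, Matrix.mul_smul, Matrix.mul_one, smul_smul]
  have hN : 2 * N = (2 * N - 1) + 1 := by omega
  refine exists_equiv_of_coprime he he' (a := a) (b := b₂) (k := 2 * N - 1) (G := g) hH0 ?_ ?_ hca hac ?_ ?_
  · rw [← hN]
    calc a * b₂ = (a * c') * (b * H.adjugate) * c := by simp only [b₂, Matrix.mul_assoc]
      _ = (M * g) • c := by rw [hac, hab₂, Matrix.smul_mul, hcc]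
  · rw [← hN]
    calc b₂ * a = c' * (b * H.adjugate * (c * a)) := by simp only [b₂, Matrix.mul_assoc]
      _ = (M * g) • c' := by rw [hca, hb₂a, Matrix.mul_smul, hcc']
  · show c' * b₂ = b₂
    simp only [b₂, ← Matrix.mul_assoc, hcc']
  · show b₂ * c = b₂
    simp only [b₂, Matrix.mul_assoc, hcc]


end Groth.Agent.AffHorrocks
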