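/-
Projective modules along a dense ring map with small elements (approximation of matrices).
-/
import Groth.Agent.AffineHorrocks.Descent
import Mathlib.LinearAlgebra.Matrix.NonsingularInverse
import Mathlib.LinearAlgebra.Prod

set_option autoImplicit false
set_option linter.style.haveILetI false
set_option backward.isDefEq.respectTransparency false

universe u v w

open Matrix
open scoped TensorProduct

noncomputable section

namespace Groth.Agent.AffHorrocks

/-- A set `J` of small elements of `L'`, stable under multiplication by `τ : L`, for which `L → L'` has dense image. -/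
structure DenseData (L : Type u) (L' : Type v) [CommRing L] [CommRing L'] [Algebra L L'] where
  /-- the small elements -/
  J : Set L'
  /-- the scaling element -/
  τ : L
  zero_mem : (0 : L') ∈ J
  add_mem : ∀ {a b}, a ∈ J → b ∈ J → a + b ∈ J
  neg_mem : ∀ {a}, a ∈ J → -a ∈ J
  mul_mem : ∀ {a b}, a ∈ J → b ∈ J → a * b ∈ J
  tau_mul : ∀ {a}, a ∈ J → algebraMap L L' τ * a ∈ J
  scale : ∀ z : L', ∃ N : ℕ, algebraMap L L' τ ^ N * z ∈ J
  approx : ∀ (z : L') (N : ℕ), ∃ l : L, ∃ j ∈ J, algebraMap L L' l - z = algebraMap L L' τ ^ N * j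
  unit' : ∀ j ∈ J, IsUnit (1 + j)
  unit : ∀ l : L, algebraMap L L' l ∈ J → IsUnit (1 + l)

namespace DenseData

variable {L : Type u} {L' : Type v} [CommRing L] [CommRing L'] [Algebra L L'] (D : DenseData L L')

local notation "t" => algebraMap L L' D.τ

theorem sum_mem {α : Type*} (s : Finset α) (f : α → L') (h : ∀ a ∈ s, f a ∈ D.J) : ∑ a ∈ s, f a ∈ D.J :=
  Finset.sum_induction f (· ∈ D.J) (fun _ _ => D.add_mem) D.zero_mem h

theorem pow_tau_mul {a : L'} (ha : a ∈ D.J) : ∀ N : ℕ, t ^ N * a ∈ D.J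
  | 0 => by simpa using ha
  | N + 1 => by rw [pow_succ', mul_assoc]; exact D.tau_mul (pow_tau_mul ha N)

/-- all entries are `τ ^ N` times small elements -/
def Small {m n : Type*} (N : ℕ) (P : Matrix m n L') : Prop := ∀ i j, ∃ a ∈ D.J, P i j = t ^ N * a

/-- all entries become small after multiplication by `τ ^ B` -/
def Bdd {m n : Type*} (B : ℕ) (P : Matrix m n L') : Prop := ∀ i j, t ^ B * P i j ∈ D.J

variable {m n l : Type*} [Fintype m] [Fintype n] [Fintype l]

theorem Small.mem {N : ℕ} {P : Matrix m n L'} (h : D.Small N P) (i : m) (j : n) : P i j ∈ D.J := by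
  obtain ⟨a, ha, he⟩ := h i j
  rw [he]
  exact D.pow_tau_mul ha N

theorem Small.mono {N K : ℕ} (hKN : K ≤ N) {P : Matrix m n L'} (h : D.Small N P) : D.Small K P := fun i j => by
  obtain ⟨a, ha, he⟩ := h i j
  exact ⟨t ^ (N - K) * a, D.pow_tau_mul ha _, by rw [he, ← mul_assoc, ← pow_add, Nat.add_sub_cancel' hKN]⟩

theorem Small.add {N : ℕ} {P Q : Matrix m n L'} (h : D.Small N P) (h' : D.Small N Q) : D.Small N (P + Q) := fun i j => by
  obtain ⟨a, ha, he⟩ := h i j
  obtain ⟨b, hb, he'⟩ := h' i j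
  exact ⟨a + b, D.add_mem ha hb, by rw [Matrix.add_apply, he, he', mul_add]⟩

theorem Small.mul {N K : ℕ} {P : Matrix m n L'} {Q : Matrix n l L'} (h : D.Small N P) (h' : D.Small K Q) :
    D.Small (N + K) (P * Q) := fun i j => by
  choose a ha he using h i
  choose b hb he' using fun x => h' x j
  refine ⟨∑ x, a x * b x, D.sum_mem _ _ fun x _ => D.mul_mem (ha x) (hb x), ?_⟩
  rw [Matrix.mul_apply, Finset.mul_sum]
  exact Finset.sum_congr rfl fun x _ => by rw [he, he', pow_add]; ring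

theorem Small.mul_bdd {N B : ℕ} {P : Matrix m n L'} {Q : Matrix n l L'} (h : D.Small (N + B) P) (h' : D.Bdd B Q) :
    D.Small N (P * Q) := fun i j => by
  choose a ha he using h i
  refine ⟨∑ x, a x * (t ^ B * Q x j), D.sum_mem _ _ fun x _ => D.mul_mem (ha x) (h' x j), ?_⟩
  rw [Matrix.mul_apply, Finset.mul_sum]
  exact Finset.sum_congr rfl fun x _ => by rw [he, pow_add]; ring

theorem Small.bdd_mul {N B : ℕ} {P : Matrix m n L'} {Q : Matrix n l L'} (h : D.Bdd B P) (h' : D.Small (N + B) Q) :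
    D.Small N (P * Q) := fun i j => by
  choose b hb he using fun x => h' x j
  refine ⟨∑ x, (t ^ B * P i x) * b x, D.sum_mem _ _ fun x _ => D.mul_mem (h i x) (hb x), ?_⟩
  rw [Matrix.mul_apply, Finset.mul_sum]
  exact Finset.sum_congr rfl fun x _ => by rw [he, pow_add]; ring

theorem exists_bdd (P : Matrix m n L') : ∃ B₀, ∀ B ≥ B₀, D.Bdd B P := by
  choose N hN using fun ij : m × n => D.scale (P ij.1 ij.2)
  refine ⟨Finset.univ.sup N, fun B hB i j => ?_⟩
  have h := (Finset.le_sup (f := N) (Finset.mem_univ (i, j))).trans hB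
  rw [show t ^ B * P i j = t ^ (B - N (i, j)) * (t ^ N (i, j) * P i j) by
    rw [← mul_assoc, ← pow_add, Nat.sub_add_cancel h]]
  exact D.pow_tau_mul (hN (i, j)) _

theorem exists_approx (P : Matrix m n L') (N : ℕ) : ∃ Q : Matrix m n L, D.Small N (Q.map (algebraMap L L') - P) := by
  choose q a ha he using fun i j => D.approx (P i j) N
  exact ⟨Matrix.of q, fun i j => ⟨a i j, ha i j, he i j⟩⟩

/-- the subring `ℤ + J` -/
def hull : Subring L' where
  carrier := {z | ∃ k : ℤ, z - k ∈ D.J}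
  mul_mem' := by
    rintro a b ⟨k, hk⟩ ⟨k', hk'⟩
    have hz : ∀ (k : ℤ) {x : L'}, x ∈ D.J → (k : L') * x ∈ D.J := fun k x hx => by
      induction k using Int.induction_on with
      | zero => simpa using D.zero_mem
      | succ i hi => rw [Int.cast_add, Int.cast_one, add_mul, one_mul]; exact D.add_mem hi hx
      | pred i hi => rw [Int.cast_sub, Int.cast_one, sub_mul, one_mul, sub_eq_add_neg]; exact D.add_mem hi (D.neg_mem hx)
    refine ⟨k * k', ?_⟩
    rw [show a * b - ((k * k' : ℤ) : L') = (a - k) * (b - k') + ((k : L') * (b - k') + (k' : L') * (a - k)) by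
      push_cast; ring]
    exact D.add_mem (D.mul_mem hk hk') (D.add_mem (hz k hk') (hz k' hk))
  one_mem' := ⟨1, by simpa using D.zero_mem⟩
  add_mem' := by
    rintro a b ⟨k, hk⟩ ⟨k', hk'⟩
    exact ⟨k + k', by rw [show a + b - ((k + k' : ℤ) : L') = (a - k) + (b - k') by push_cast; ring]; exact D.add_mem hk hk'⟩
  zero_mem' := ⟨0, by simpa using D.zero_mem⟩
  neg_mem' := by
    rintro a ⟨k, hk⟩
    exact ⟨-k, by rw [show -a - ((-k : ℤ) : L') = -(a - k) by push_cast; ring]; exact D.neg_mem hk⟩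

/-- the ideal `J` of `ℤ + J` -/
def hullIdeal : Ideal D.hull where
  carrier := {z | (z : L') ∈ D.J}
  add_mem' := D.add_mem
  zero_mem' := D.zero_mem
  smul_mem' := by
    rintro ⟨c, k, hk⟩ x (hx : (x : L') ∈ D.J)
    show c * (x : L') ∈ D.J
    have hz : (k : L') * (x : L') ∈ D.J := by
      induction k using Int.induction_on generalizing c with
      | zero => simpa using D.zero_mem
      | succ i hi =>
        rw [Int.cast_add, Int.cast_one, add_mul, one_mul]
        exact D.add_mem (hi (c - 1) (by simpa [sub_sub, add_comm] using hk)) hx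
      | pred i hi =>
        rw [Int.cast_sub, Int.cast_one, sub_mul, one_mul, sub_eq_add_neg]
        exact D.add_mem (hi (c + 1) (by convert hk using 1; push_cast; ring)) (D.neg_mem hx)
    rw [show c * (x : L') = (c - k) * x + (k : L') * x by ring]
    exact D.add_mem (D.mul_mem hk hx) hz

theorem det_sub_one_mem [DecidableEq n] {W : Matrix n n L'} (h : ∀ i j, (W - 1) i j ∈ D.J) : W.det - 1 ∈ D.J := by
  have hmem : ∀ i j, W i j ∈ D.hull := fun i j => ⟨if i = j then 1 else 0, by
    have := h i j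
    rw [Matrix.sub_apply, Matrix.one_apply] at this
    split_ifs with hij <;> simpa [hij] using this⟩
  let W₀ : Matrix n n D.hull := Matrix.of fun i j => ⟨W i j, hmem i j⟩
  have hW : W₀.map (Ideal.Quotient.mk D.hullIdeal) = 1 := Matrix.ext fun i j => by
    have h1 : Ideal.Quotient.mk D.hullIdeal (W₀ i j) = Ideal.Quotient.mk D.hullIdeal ((1 : Matrix n n D.hull) i j) := by
      refine Ideal.Quotient.eq.2 ?_
      show ((W₀ i j - (1 : Matrix n n D.hull) i j : D.hull) : L') ∈ D.J
      have := h i j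
      by_cases hij : i = j <;> simpa [W₀, Matrix.one_apply, hij] using this
    by_cases hij : i = j <;> simpa [Matrix.one_apply, hij] using h1
  have hdet : Ideal.Quotient.mk D.hullIdeal W₀.det = Ideal.Quotient.mk D.hullIdeal 1 := by
    rw [RingHom.map_det, RingHom.mapMatrix_apply, hW, det_one, map_one]
  have h2 : ((W₀.det - 1 : D.hull) : L') ∈ D.J := Ideal.Quotient.eq.1 hdet
  have h3 : ((W₀.det : D.hull) : L') = W.det := RingHom.map_det D.hull.subtype W₀
  simpa [h3] using h2

theorem isUnit_det' [DecidableEq n] {W : Matrix n n L'} (h : ∀ i j, (W - 1) i j ∈ D.J) : IsUnit W.det := by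
  simpa using D.unit' _ (D.det_sub_one_mem h)

theorem isUnit_det [DecidableEq n] {W : Matrix n n L} (h : ∀ i j, (W.map (algebraMap L L') - 1) i j ∈ D.J) :
    IsUnit W.det := by
  have h1 := D.det_sub_one_mem h
  rw [show (W.map (algebraMap L L')).det = algebraMap L L' W.det from (RingHom.map_det _ W).symm, ← map_one (algebraMap L L'),
    ← map_sub] at h1
  simpa using D.unit _ h1

include D in
/-- Idempotents equivalent over `L'` are equivalent over `L`. -/
theorem exists_equiv [DecidableEq m] [DecidableEq n] {E : Matrix n n L} {F : Matrix m m L} (hE : E * E = E)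
    (hF : F * F = F) {x' : Matrix n m L'} {y' : Matrix m n L'} (hxy : x' * y' = E.map (algebraMap L L'))
    (hyx : y' * x' = F.map (algebraMap L L')) : ∃ (x : Matrix n m L) (y : Matrix m n L), x * y = E ∧ y * x = F := by
  let φ := algebraMap L L'
  let X' := E.map φ * x' * F.map φ
  let Y' := F.map φ * y' * E.map φ
  have hφE : E.map φ * E.map φ = E.map φ := by rw [← Matrix.map_mul, hE]
  have hφF : F.map φ * F.map φ = F.map φ := by rw [← Matrix.map_mul, hF]
  have hXY : X' * Y' = E.map φ := by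
    calc X' * Y' = E.map φ * x' * (F.map φ * F.map φ) * y' * E.map φ := by simp only [X', Y', Matrix.mul_assoc]
      _ = E.map φ * (x' * y' * (x' * y')) * E.map φ := by rw [hφF, ← hyx]; simp only [Matrix.mul_assoc]
      _ = E.map φ := by simp only [hxy]; rw [hφE, hφE, hφE]
  have hYX : Y' * X' = F.map φ := by
    calc Y' * X' = F.map φ * y' * (E.map φ * E.map φ) * x' * F.map φ := by simp only [X', Y', Matrix.mul_assoc]
      _ = F.map φ * (y' * x' * (y' * x')) * F.map φ := by rw [hφE, ← hxy]; simp only [Matrix.mul_assoc]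
      _ = F.map φ := by simp only [hyx]; rw [hφF, hφF, hφF]
  obtain ⟨B₁, hB₁⟩ := D.exists_bdd X'
  obtain ⟨B₂, hB₂⟩ := D.exists_bdd Y'
  obtain ⟨B₃, hB₃⟩ := D.exists_bdd (E.map φ)
  obtain ⟨B₄, hB₄⟩ := D.exists_bdd (F.map φ)
  let B := B₁ + B₂ + B₃ + B₄
  obtain ⟨x₀, hx₀⟩ := D.exists_approx X' (B + B + B)
  obtain ⟨y₀, hy₀⟩ := D.exists_approx Y' (B + B + B)
  let x := E * x₀ * F
  let y := F * y₀ * E
  have hdx : D.Small B (x.map φ - X') := by
    have h : x.map φ - X' = E.map φ * (x₀.map φ - X') * F.map φ := by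
      rw [Matrix.mul_sub, Matrix.sub_mul, ← Matrix.map_mul, ← Matrix.map_mul,
        show E.map φ * X' * F.map φ = X' by simp only [X', ← Matrix.mul_assoc, hφE]; simp only [Matrix.mul_assoc, hφF]]
    rw [h]
    exact Small.mul_bdd D (Small.bdd_mul D (hB₃ B (by omega)) hx₀) (hB₄ B (by omega))
  have hdy : D.Small B (y.map φ - Y') := by
    have h : y.map φ - Y' = F.map φ * (y₀.map φ - Y') * E.map φ := by
      rw [Matrix.mul_sub, Matrix.sub_mul, ← Matrix.map_mul, ← Matrix.map_mul,
        show F.map φ * Y' * E.map φ = Y' by simp only [Y', ← Matrix.mul_assoc, hφF]; simp only [Matrix.mul_assoc, hφE]]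
    rw [h]
    exact Small.mul_bdd D (Small.bdd_mul D (hB₄ B (by omega)) hy₀) (hB₃ B (by omega))
  let w₁ := 1 - E + x * y
  let w₂ := 1 - F + y * x
  have hu₁ : IsUnit w₁.det := D.isUnit_det (Small.mem D (N := 0) (by
    have h : w₁.map φ - 1 = (x.map φ - X') * Y' + ((x.map φ - X') * (y.map φ - Y') + X' * (y.map φ - Y')) := by
      simp only [w₁, Matrix.map_add _ (map_add φ), Matrix.map_sub _ (map_sub φ), Matrix.map_one _ (map_zero φ) (map_one φ),
        Matrix.map_mul, Matrix.sub_mul, Matrix.mul_sub, hXY]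
      abel
    rw [h]
    exact Small.add D (Small.mul_bdd D (hdx.mono D (by omega : 0 + B ≤ B)) (hB₂ B (by omega)))
      (Small.add D ((Small.mul D hdx hdy).mono D (Nat.zero_le _)) (Small.bdd_mul D (hB₁ B (by omega)) (hdy.mono D (by omega : 0 + B ≤ B))))))
  have hu₂ : IsUnit w₂.det := D.isUnit_det (Small.mem D (N := 0) (by
    have h : w₂.map φ - 1 = (y.map φ - Y') * X' + ((y.map φ - Y') * (x.map φ - X') + Y' * (x.map φ - X')) := by
      simp only [w₂, Matrix.map_add _ (map_add φ), Matrix.map_sub _ (map_sub φ), Matrix.map_one _ (map_zero φ) (map_one φ),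
        Matrix.map_mul, Matrix.sub_mul, Matrix.mul_sub, hYX]
      abel
    rw [h]
    exact Small.add D (Small.mul_bdd D (hdy.mono D (by omega : 0 + B ≤ B)) (hB₁ B (by omega)))
      (Small.add D ((Small.mul D hdy hdx).mono D (Nat.zero_le _)) (Small.bdd_mul D (hB₂ B (by omega)) (hdx.mono D (by omega : 0 + B ≤ B))))))
  have hEx : E * x = x := by simp only [x, ← Matrix.mul_assoc, hE]
  have hxF : x * F = x := by simp only [x, Matrix.mul_assoc, hF]
  have hFy : F * y = y := by simp only [y, ← Matrix.mul_assoc, hF]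
  have hyE : y * E = y := by simp only [y, Matrix.mul_assoc, hE]
  have hw₁E : w₁ * E = x * y := by
    simp only [w₁, Matrix.add_mul, Matrix.sub_mul, Matrix.one_mul, hE, sub_self, zero_add, Matrix.mul_assoc, hyE]
  have hEw₁ : E * w₁ = x * y := by
    simp only [w₁, Matrix.mul_add, Matrix.mul_sub, Matrix.mul_one, hE, sub_self, zero_add, ← Matrix.mul_assoc, hEx]
  have hw₂F : w₂ * F = y * x := by
    simp only [w₂, Matrix.add_mul, Matrix.sub_mul, Matrix.one_mul, hF, sub_self, zero_add, Matrix.mul_assoc, hxF]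
  refine ⟨x, y * w₁⁻¹, by rw [← Matrix.mul_assoc, ← hEw₁, Matrix.mul_assoc, mul_nonsing_inv _ hu₁, Matrix.mul_one], ?_⟩
  have hxy₁ : x * (y * w₁⁻¹) = E := by
    rw [← Matrix.mul_assoc, ← hEw₁, Matrix.mul_assoc, mul_nonsing_inv _ hu₁, Matrix.mul_one]
  have hz : w₂ * (y * w₁⁻¹ * x) = w₂ * F := by
    rw [hw₂F]
    calc w₂ * (y * w₁⁻¹ * x) = (1 - F) * (F * y) * w₁⁻¹ * x + y * (x * (y * w₁⁻¹)) * x := by
          rw [hFy]; simp only [w₂, Matrix.add_mul, Matrix.mul_assoc]
      _ = y * x := by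
          rw [hxy₁, ← Matrix.mul_assoc (1 - F), Matrix.sub_mul, Matrix.one_mul, hF, sub_self, Matrix.zero_mul,
            Matrix.zero_mul, Matrix.zero_mul, zero_add, hyE]
  have := congrArg (w₂⁻¹ * ·) hz
  simpa only [← Matrix.mul_assoc, nonsing_inv_mul _ hu₂, Matrix.one_mul] using this

include D in
/-- Injectivity on finitely generated projective modules. -/
theorem nonempty_linearEquiv (M N : Type w) [AddCommGroup M] [Module L M] [Module.Finite L M] [Module.Projective L M]
    [AddCommGroup N] [Module L N] [Module.Finite L N] [Module.Projective L N]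
    (h : Nonempty (L' ⊗[L] M ≃ₗ[L'] L' ⊗[L] N)) : Nonempty (M ≃ₗ[L] N) := by
  classical
  obtain ⟨n, q, i, -, -, hqi⟩ := Module.Finite.exists_comp_eq_id_of_projective L M
  obtain ⟨m, q', i', -, -, hqi'⟩ := Module.Finite.exists_comp_eq_id_of_projective L N
  have hq : ∀ z, q (i z) = z := fun z => DFunLike.congr_fun hqi z
  have hq' : ∀ z, q' (i' z) = z := fun z => DFunLike.congr_fun hqi' z
  obtain ⟨e⟩ := h
  obtain ⟨x', y', hxy, hyx⟩ := exists_matrices_of_equiv L' hq hq' e
  obtain ⟨x, y, h1, h2⟩ := D.exists_equiv (frame_idem hq) (frame_idem hq') hxy hyx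
  exact nonempty_equiv_of_matrices hq hq' h1 h2

include D in
/-- Stably free modules descend. -/
theorem exists_stablyFree (M' : Type w) [AddCommGroup M'] [Module L' M'] (n m : ℕ)
    (ψ : (M' × (Fin n → L')) ≃ₗ[L'] (Fin m → L')) :
    ∃ (M : Type u) (_ : AddCommGroup M) (_ : Module L M), Module.Finite L M ∧
      Nonempty ((M × (Fin n → L)) ≃ₗ[L] (Fin m → L)) ∧ Nonempty (L' ⊗[L] M ≃ₗ[L'] M') := by
  classical
  let φ := algebraMap L L'
  let Q' : Matrix (Fin n) (Fin m) L' := LinearMap.toMatrix' (LinearMap.snd L' M' (Fin n → L') ∘ₗ ψ.symm.toLinearMap)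
  let S' : Matrix (Fin m) (Fin n) L' := LinearMap.toMatrix' (ψ.toLinearMap ∘ₗ LinearMap.inr L' M' (Fin n → L'))
  have hQS : Q' * S' = 1 := by
    rw [← LinearMap.toMatrix'_comp, ← LinearMap.toMatrix'_id]
    exact congrArg _ (LinearMap.ext fun z => by simp)
  have hQ'v : ∀ v, Q' *ᵥ v = (ψ.symm v).2 := fun v => LinearMap.toMatrix'_mulVec _ v
  obtain ⟨B₁, hB₁⟩ := D.exists_bdd Q'
  obtain ⟨B₂, hB₂⟩ := D.exists_bdd S'
  let B := B₁ + B₂
  obtain ⟨Q, hQ⟩ := D.exists_approx Q' (0 + B)
  obtain ⟨S, hS⟩ := D.exists_approx S' (0 + B)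
  let w := Q * S
  have hu : IsUnit w.det := D.isUnit_det (Small.mem D (N := 0) (by
    have h : w.map φ - 1 = (Q.map φ - Q') * S' + ((Q.map φ - Q') * (S.map φ - S') + Q' * (S.map φ - S')) := by
      simp only [w, Matrix.map_mul, Matrix.sub_mul, Matrix.mul_sub, hQS]
      abel
    rw [h]
    exact Small.add D (Small.mul_bdd D hQ (hB₂ B (by omega)))
      (Small.add D ((Small.mul D hQ hS).mono D (Nat.zero_le _)) (Small.bdd_mul D (hB₁ B (by omega)) hS))))
  let W := 1 + S' * (Q.map φ - Q')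
  have huW : IsUnit W.det := D.isUnit_det' (Small.mem D (N := 0) (by
    rw [show W - 1 = S' * (Q.map φ - Q') by simp [W]]
    exact Small.bdd_mul D (hB₂ B (by omega)) hQ))
  have hQW : Q' * W = Q.map φ := by
    rw [Matrix.mul_add, Matrix.mul_one, ← Matrix.mul_assoc, hQS, Matrix.one_mul, add_sub_cancel]
  let S₁ := S * w⁻¹
  have hQS₁ : Q * S₁ = 1 := by rw [← Matrix.mul_assoc]; exact mul_nonsing_inv _ hu
  let M : Submodule L (Fin m → L) := LinearMap.ker Q.mulVecLin
  let p : (Fin m → L) →ₗ[L] M := LinearMap.codRestrict M ((1 - S₁ * Q).mulVecLin) fun z => by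
    show Q *ᵥ ((1 - S₁ * Q) *ᵥ z) = 0
    rw [mulVec_mulVec, Matrix.mul_sub, Matrix.mul_one, ← Matrix.mul_assoc, hQS₁, Matrix.one_mul, sub_self, zero_mulVec]
  have hp : ∀ z : M, p (M.subtype z) = z := fun z => Subtype.ext (by
    show (1 - S₁ * Q) *ᵥ (z : Fin m → L) = z
    rw [sub_mulVec, one_mulVec, ← mulVec_mulVec, show Q *ᵥ (z : Fin m → L) = 0 from z.2, mulVec_zero, sub_zero])
  haveI : Module.Finite L M := Module.Finite.of_surjective p fun z => ⟨_, hp z⟩
  let e : (M × (Fin n → L)) ≃ₗ[L] (Fin m → L) :=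
    LinearEquiv.ofLinear (LinearMap.coprod M.subtype S₁.mulVecLin) (LinearMap.prod p Q.mulVecLin)
      (LinearMap.ext fun z => by
        show (1 - S₁ * Q) *ᵥ z + S₁ *ᵥ (Q *ᵥ z) = z
        rw [mulVec_mulVec, sub_mulVec, one_mulVec, sub_add_cancel])
      (LinearMap.ext fun z => by
        obtain ⟨a, b⟩ := z
        have hb : Q *ᵥ ((a : Fin m → L) + S₁ *ᵥ b) = b := by
          rw [mulVec_add, show Q *ᵥ (a : Fin m → L) = 0 from a.2, zero_add, mulVec_mulVec, hQS₁, one_mulVec]
        refine Prod.ext (Subtype.ext ?_) hb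
        show (1 - S₁ * Q) *ᵥ ((a : Fin m → L) + S₁ *ᵥ b) = a
        rw [sub_mulVec, one_mulVec, ← mulVec_mulVec _ S₁ Q, hb, add_sub_cancel_right])
  let ee := (LinearMap.toMatrix' (M.subtype ∘ₗ p)).map φ
  have hee : ee = 1 - S₁.map φ * Q.map φ := by
    rw [← Matrix.map_mul, ← Matrix.map_one φ (map_zero φ) (map_one φ), ← Matrix.map_sub _ (map_sub φ)]
    exact congrArg (fun P => Matrix.map P φ) (LinearMap.toMatrix'_toLin' (1 - S₁ * Q))
  have hQee : Q.map φ * ee = 0 := by
    rw [hee, Matrix.mul_sub, Matrix.mul_one, ← Matrix.mul_assoc, ← Matrix.map_mul, hQS₁,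
      Matrix.map_one _ (map_zero φ) (map_one φ), Matrix.one_mul, sub_self]
  let F : L' ⊗[L] M →ₗ[L'] M' :=
    LinearMap.fst L' M' (Fin n → L') ∘ₗ ψ.symm.toLinearMap ∘ₗ W.mulVecLin ∘ₗ coordB L' M.subtype
  let G : M' →ₗ[L'] L' ⊗[L] M :=
    retrB L' p ∘ₗ W⁻¹.mulVecLin ∘ₗ ψ.toLinearMap ∘ₗ LinearMap.inl L' M' (Fin n → L')
  refine ⟨M, inferInstance, inferInstance, inferInstance, ⟨e⟩, ⟨LinearEquiv.ofLinear F G
    (LinearMap.ext fun a => ?_) (LinearMap.ext fun z => ?_)⟩⟩
  · show (ψ.symm (W *ᵥ coordB L' M.subtype (retrB L' p (W⁻¹ *ᵥ ψ (a, 0))))).1 = a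
    have h1 : Q.map φ *ᵥ (W⁻¹ *ᵥ ψ (a, 0)) = 0 := by
      rw [← hQW, mulVec_mulVec, Matrix.mul_assoc, mul_nonsing_inv _ huW, Matrix.mul_one, hQ'v, ψ.symm_apply_apply]
    rw [coordB_retrB, show (LinearMap.toMatrix' (M.subtype ∘ₗ p)).map (algebraMap L L') = ee from rfl, hee, sub_mulVec,
      one_mulVec, ← mulVec_mulVec, h1, mulVec_zero, sub_zero, mulVec_mulVec, mul_nonsing_inv _ huW, one_mulVec,
      ψ.symm_apply_apply]
  · show retrB L' p (W⁻¹ *ᵥ ψ ((ψ.symm (W *ᵥ coordB L' M.subtype z)).1, 0)) = z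
    set v := coordB L' M.subtype z with hv
    have hev : ee *ᵥ v = v := by
      rw [hv, show ee = (LinearMap.toMatrix' (M.subtype ∘ₗ p)).map (algebraMap L L') from rfl, ← coordB_retrB,
        retrB_coordB L' M.subtype p hp]
    have h2 : (ψ.symm (W *ᵥ v)).2 = 0 := by
      rw [← hQ'v, mulVec_mulVec, hQW, ← hev, mulVec_mulVec, hQee, zero_mulVec]
    rw [← h2, Prod.mk.eta, ψ.apply_symm_apply, mulVec_mulVec, nonsing_inv_mul _ huW, one_mulVec, hv,
      retrB_coordB L' M.subtype p hp]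

end DenseData

end Groth.Agent.AffHorrocks
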