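/-
Lifting idempotent matrices along a dense map out of a localisation of a henselian pair.
-/
import Groth.Agent.AffineHorrocks.Dense
import Groth.Agent.Hensel.Ops
import Mathlib.LinearAlgebra.Matrix.Charpoly.Coeff

set_option autoImplicit false
set_option linter.style.haveILetI false
set_option backward.isDefEq.respectTransparency false

universe u v w

open Matrix
open scoped TensorProduct

noncomputable section

namespace Groth.Agent.AffHorrocks

theorem isUnit_det_of_sub_one_mem {A : Type u} [CommRing A] {I : Ideal A} (hI : I ≤ Ideal.jacobson ⊥) {n : Type*}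
    [Fintype n] [DecidableEq n] {W : Matrix n n A} (h : ∀ i j, (W - 1) i j ∈ I) : IsUnit W.det := by
  have hW : W.map (Ideal.Quotient.mk I) = 1 := Matrix.ext fun i j => by
    have h1 : Ideal.Quotient.mk I (W i j) = Ideal.Quotient.mk I ((1 : Matrix n n A) i j) := Ideal.Quotient.eq.2 (h i j)
    by_cases hij : i = j <;> simpa [Matrix.one_apply, hij] using h1
  have hdet : Ideal.Quotient.mk I W.det = Ideal.Quotient.mk I 1 := by
    rw [RingHom.map_det, RingHom.mapMatrix_apply, hW, det_one, map_one]
  simpa using Ideal.mem_jacobson_bot.1 (hI (Ideal.Quotient.eq.1 hdet)) 1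

/-- The matrix equation `R² + R + D = 0` for small `D`. -/
theorem exists_quadratic_root {A : Type u} [CommRing A] (t : A) [HenselianRing A (Ideal.span {t})] {n : ℕ} (N : ℕ)
    (b : Matrix (Fin n) (Fin n) A) :
    ∃ (p : Polynomial A) (b' : Matrix (Fin n) (Fin n) A),
      Polynomial.aeval (t ^ (N + 1) • b) p = t ^ (N + 1) • b' ∧
      Polynomial.aeval (t ^ (N + 1) • b) p * Polynomial.aeval (t ^ (N + 1) • b) p +
        Polynomial.aeval (t ^ (N + 1) • b) p + t ^ (N + 1) • b = 0 := by
  classical
  set I := Ideal.span {t}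
  set D := t ^ (N + 1) • b with hD
  set P := D.charpoly with hP
  have hDI : ∀ i j, D i j ∈ I := fun i j => by
    rw [hD, Matrix.smul_apply, smul_eq_mul, pow_succ', mul_assoc]
    exact Ideal.mul_mem_right _ _ (Ideal.mem_span_singleton_self t)
  have hPmap : P.map (Ideal.Quotient.mk I) = Polynomial.X ^ n := by
    rw [hP, ← Matrix.charpoly_map,
      show D.map (Ideal.Quotient.mk I) = 0 from Matrix.ext fun i j => Ideal.Quotient.eq_zero_iff_mem.2 (hDI i j),
      Matrix.charpoly_zero, Fintype.card_fin]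
  have hPm : P.Monic := Matrix.charpoly_monic _
  haveI : Module.Finite A (AdjoinRoot P) := hPm.finite_adjoinRoot
  set J : Ideal (AdjoinRoot P) := I.map (algebraMap A (AdjoinRoot P)) with hJ
  let x : AdjoinRoot P := AdjoinRoot.root P
  have hx : x ∈ J.radical := by
    refine ⟨n, ?_⟩
    have hPx : Polynomial.aeval x P = 0 := by rw [AdjoinRoot.aeval_eq, AdjoinRoot.mk_self]
    have hmem : Polynomial.aeval x (P - Polynomial.X ^ n) ∈ J := by
      rw [Polynomial.aeval_eq_sum_range]
      refine Submodule.sum_mem _ fun i _ => ?_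
      rw [Algebra.smul_def]
      refine Ideal.mul_mem_right _ _ (Ideal.mem_map_of_mem _ ?_)
      rw [← Ideal.Quotient.eq_zero_iff_mem, ← Polynomial.coeff_map, Polynomial.map_sub, hPmap, Polynomial.map_pow,
        Polynomial.map_X, sub_self, Polynomial.coeff_zero]
    rw [map_sub, hPx, zero_sub, map_pow, Polynomial.aeval_X, Ideal.neg_mem_iff] at hmem
    exact hmem
  haveI h1 : HenselianRing (AdjoinRoot P) J := Hensel.henselianRing_integral A I (AdjoinRoot P)
  haveI h2 : HenselianRing (AdjoinRoot P) J.radical :=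
    (Hensel.henselianRing_iff_of_radical (Ideal.radical_idem J).symm).1 h1
  obtain ⟨r, hr, hr0⟩ := HenselianRing.is_henselian (I := J.radical)
    (Polynomial.X ^ 2 + Polynomial.X + Polynomial.C x) (by monicity!) 0
    (by simpa using hx) (by simp)
  obtain ⟨p, rfl⟩ := AdjoinRoot.mk_surjective r
  rw [sub_zero] at hr0
  have hq : P ∣ p * p + p + Polynomial.X := by
    rw [← AdjoinRoot.mk_eq_zero]
    simpa [Polynomial.IsRoot, sq, x, AdjoinRoot.mk_X] using hr
  set Rm := Polynomial.aeval D p with hR
  have heq : Rm * Rm + Rm + D = 0 := by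
    obtain ⟨c, hc⟩ := hq
    have := congrArg (Polynomial.aeval D) hc
    rw [map_add, map_add, map_mul, Polynomial.aeval_X, map_mul, hP, Matrix.aeval_self_charpoly, zero_mul] at this
    exact this
  obtain ⟨k, hk⟩ := hr0
  -- `R` is nilpotent modulo `t`
  have hnil : (Rm.map (Ideal.Quotient.mk I)) ^ k = 0 := by
    rw [← map_pow] at hk
    have hgen : ∀ y ∈ J, ∀ s : Polynomial A, AdjoinRoot.mk P s = y →
        (Polynomial.aeval D s).map (Ideal.Quotient.mk I) = 0 := by
      intro y hy
      induction hy using Submodule.span_induction with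
      | mem y hy =>
        obtain ⟨i, hi, rfl⟩ := hy
        intro s hs
        obtain ⟨c, hc⟩ := AdjoinRoot.mk_eq_mk.1 (hs.trans (AdjoinRoot.mk_C i).symm)
        rw [sub_eq_iff_eq_add.1 hc, map_add, map_mul, hP, Matrix.aeval_self_charpoly, zero_mul, zero_add,
          Polynomial.aeval_C]
        exact Matrix.ext fun a b => by
          by_cases hab : a = b <;> simp [Matrix.algebraMap_matrix_apply, hab, Ideal.Quotient.eq_zero_iff_mem.2 hi]
      | zero =>
        intro s hs
        obtain ⟨c, hc⟩ := AdjoinRoot.mk_eq_zero.1 hs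
        rw [hc, map_mul, hP, Matrix.aeval_self_charpoly, zero_mul]
        simp
      | add y z _ _ hy hz =>
        intro s hs
        obtain ⟨s₁, hs₁⟩ := AdjoinRoot.mk_surjective (g := P) y
        have h2 := hz (s - s₁) (by rw [map_sub, hs, hs₁, add_sub_cancel_left])
        rw [show s = s₁ + (s - s₁) by ring, map_add, Matrix.map_add _ (map_add _), hy s₁ hs₁, h2, add_zero]
      | smul a y _ hy =>
        intro s hs
        obtain ⟨s₁, hs₁⟩ := AdjoinRoot.mk_surjective (g := P) y
        obtain ⟨s₂, hs₂⟩ := AdjoinRoot.mk_surjective (g := P) a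
        obtain ⟨c, hc⟩ := AdjoinRoot.mk_eq_mk.1 (show AdjoinRoot.mk P s = AdjoinRoot.mk P (s₂ * s₁) by
          rw [map_mul, hs₁, hs₂, hs, smul_eq_mul])
        rw [sub_eq_iff_eq_add.1 hc, map_add, map_mul, hP, Matrix.aeval_self_charpoly, zero_mul, zero_add, map_mul,
          Matrix.map_mul, hy s₁ hs₁, Matrix.mul_zero]
    have h3 := hgen _ hk (p ^ k) rfl
    rwa [map_pow, ← RingHom.mapMatrix_apply, map_pow, RingHom.mapMatrix_apply] at h3
  have hu : IsUnit (1 + Rm).det := by
    have h3 : IsUnit ((1 + Rm).map (Ideal.Quotient.mk I)).det := by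
      rw [← Matrix.isUnit_iff_isUnit_det, Matrix.map_add _ (map_add _), Matrix.map_one _ (map_zero _) (map_one _)]
      exact IsNilpotent.isUnit_one_add ⟨k, hnil⟩
    rw [← RingHom.mapMatrix_apply, ← RingHom.map_det] at h3
    exact Hensel.isUnit_of_mk HenselianRing.jac h3
  refine ⟨p, -(b * (1 + Rm)⁻¹), ?_, heq⟩
  rw [← hR, smul_neg, ← Matrix.smul_mul, ← hD, eq_comm, neg_eq_iff_eq_neg]
  have h4 : D = -(Rm * (1 + Rm)) := by
    rw [eq_neg_iff_add_eq_zero, Matrix.mul_add, Matrix.mul_one, add_comm D, add_comm Rm]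
    exact heq
  conv_lhs => rw [h4, Matrix.neg_mul, Matrix.mul_assoc, mul_nonsing_inv _ hu, Matrix.mul_one]

namespace DenseData

variable {L : Type u} {L' : Type v} [CommRing L] [CommRing L'] [Algebra L L'] (D : DenseData L L')
  {A : Type u} [CommRing A] (ι : A →+* L) (t : A) [HenselianRing A (Ideal.span {t})]

include D in
/-- Idempotents with the same image are equal. -/
theorem idempotent_ext {e₁ e₂ : L} (h₁ : IsIdempotentElem e₁) (h₂ : IsIdempotentElem e₂)
    (h : algebraMap L L' e₁ = algebraMap L L' e₂) : e₁ = e₂ := by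
  have hu := D.unit (-((e₁ - e₂) * (e₁ - e₂))) (by
    rw [map_neg, map_mul, map_sub, h, sub_self, mul_zero, neg_zero]; exact D.zero_mem)
  refine sub_eq_zero.1 (hu.mul_left_cancel ?_)
  rw [mul_zero]
  linear_combination (3 * e₂ - (e₁ + 1)) * h₁.eq + ((e₂ + 1) - 3 * e₁) * h₂.eq

variable (hup : ∀ (a : A) (N : ℕ), ∃ j ∈ D.J,
    algebraMap L L' (ι (t ^ (N + 1) * a)) = algebraMap L L' D.τ ^ N * j)
  (hdown : ∀ (l : L) (N : ℕ), (∃ j ∈ D.J, algebraMap L L' l = algebraMap L L' D.τ ^ N * j) →
    ∃ b : A, l = ι (t ^ (N + 1) * b))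

include hup hdown in
/-- Idempotent matrices over `L'` are equivalent to idempotent matrices over `L`. -/
theorem exists_idempotent_lift {n : ℕ} {e' : Matrix (Fin n) (Fin n) L'} (he' : e' * e' = e') :
    ∃ (e : Matrix (Fin n) (Fin n) L) (x y : Matrix (Fin n) (Fin n) L'),
      e * e = e ∧ x * y = e' ∧ y * x = e.map (algebraMap L L') := by
  classical
  let φ := algebraMap L L'
  obtain ⟨B₁, hB₁⟩ := D.exists_bdd e'
  obtain ⟨B₂, hB₂⟩ := D.exists_bdd (e' - 1)
  obtain ⟨B₃, hB₃⟩ := D.exists_bdd (e' + e' - 1)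
  let B := B₁ + B₂ + B₃
  obtain ⟨X, hX⟩ := D.exists_approx e' (B + B + B + B + B)
  set Δ := X.map φ - e' with hΔ
  set c := X * X - X with hc
  have hcs : D.Small (B + B + B) (c.map φ) := by
    have h : c.map φ = Δ * Δ + (e' * Δ + Δ * (e' - 1)) := by
      simp only [c, hΔ, Matrix.map_sub _ (map_sub φ), Matrix.map_mul, Matrix.mul_sub, Matrix.sub_mul,
        Matrix.mul_one, he']
      abel
    rw [h]
    exact Small.add D ((Small.mul D hX hX).mono D (by omega))
      (Small.add D ((Small.bdd_mul D (hB₁ B (by omega)) hX).mono D (by omega))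
        ((Small.mul_bdd D hX (hB₂ B (by omega))).mono D (by omega)))
  choose b hb using fun i j => hdown (c i j) (B + B + B) (hcs i j)
  let cA : Matrix (Fin n) (Fin n) A := t ^ (B + B + B + 1) • Matrix.of b
  have hcA : cA.map ι = c := Matrix.ext fun i j => by simp [cA, hb i j]
  let u : Matrix (Fin n) (Fin n) A := 1 + (4 : ℤ) • cA
  have hu : IsUnit u.det := isUnit_det_of_sub_one_mem (HenselianRing.jac (I := Ideal.span {t})) fun i j => by
    simp only [u, add_sub_cancel_left, cA, Matrix.smul_apply, smul_eq_mul, pow_succ', mul_assoc]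
    exact zsmul_mem (Ideal.mul_mem_right _ _ (Ideal.mem_span_singleton_self t)) 4
  let b₂ := Matrix.of b * u⁻¹
  obtain ⟨p, b', hb', heq⟩ := exists_quadratic_root t (B + B + B) b₂
  set D₀ := t ^ (B + B + B + 1) • b₂ with hD₀
  have hD₀' : D₀ * u = cA := by
    rw [hD₀, ← Matrix.smul_mul, Matrix.mul_assoc, nonsing_inv_mul _ hu, Matrix.mul_one]
  let ιM := ι.mapMatrix (m := Fin n)
  set DL := ιM D₀ with hDL
  set uL := ιM u with huL
  set R := ιM (Polynomial.aeval D₀ p) with hR
  have huL' : uL = 1 + (4 : ℤ) • c := by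
    rw [huL, map_add, map_one, map_zsmul]
    exact congrArg _ (congrArg _ hcA)
  have huu : IsUnit uL := ((Matrix.isUnit_iff_isUnit_det _).2 hu).map ιM
  have hDu : DL * uL = c := by rw [hDL, huL, ← map_mul, hD₀']; exact hcA
  have hcX : c * X = X * c := by simp only [c, sub_mul, mul_sub, mul_assoc]
  have huX : uL * X = X * uL := by rw [huL', add_mul, mul_add, one_mul, mul_one, smul_mul_assoc, mul_smul_comm, hcX]
  have hDX : DL * X = X * DL := huu.mul_right_cancel (by
    rw [mul_assoc, ← huX, ← mul_assoc, mul_assoc X, hDu, hcX])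
  have hDc : DL * c = c * DL := by rw [hc, mul_sub, sub_mul, ← mul_assoc, hDX, mul_assoc, hDX, ← mul_assoc]
  have hRX : R * X = X * R := by
    suffices h : ∀ q : Polynomial A, ιM (Polynomial.aeval D₀ q) * X = X * ιM (Polynomial.aeval D₀ q) from h p
    intro q
    induction q using Polynomial.induction_on' with
    | add p q hp hq => rw [map_add, map_add, add_mul, mul_add, hp, hq]
    | monomial k a =>
      rw [Polynomial.aeval_monomial, map_mul, map_pow, ← hDL]
      have hs : ιM (algebraMap A _ a) * X = X * ιM (algebraMap A _ a) := by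
        have : ιM (algebraMap A (Matrix (Fin n) (Fin n) A) a) = algebraMap L (Matrix (Fin n) (Fin n) L) (ι a) :=
          Matrix.ext fun i j => by
            by_cases hij : i = j <;> simp [ιM, Matrix.algebraMap_matrix_apply, hij]
        rw [this]; exact Algebra.commutes _ _
      rw [mul_assoc, (Commute.pow_left hDX k : _ = _), ← mul_assoc, hs, mul_assoc]
  have heqL : R * R + R + DL = 0 := by
    rw [hR, hDL, ← map_mul, ← map_add, ← map_add, heq, map_zero]
  let e := X + (X + X - 1) * R
  have he : e * e = e := by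
    have hXR : ∀ z, R * (X * z) = X * (R * z) := fun z => by rw [← mul_assoc, hRX, mul_assoc]
    have h2 : (X + X - 1) * (X + X - 1) = uL := by
      rw [huL', hc]
      simp only [mul_sub, sub_mul, mul_add, add_mul, one_mul, mul_one, smul_sub]
      abel
    have h3 : (X + X - 1) * R = R * (X + X - 1) := by
      simp only [mul_sub, sub_mul, mul_add, add_mul, one_mul, mul_one, hRX]
    have h4 : uL * DL = c := by
      rw [huL', add_mul, one_mul, smul_mul_assoc, ← hDc, ← mul_smul_comm]
      conv_lhs => rw [← mul_one DL]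
      rw [mul_assoc, one_mul, ← mul_add, ← huL', hDu]
    have e1 : (X + X - 1) * R * ((X + X - 1) * R) = uL * (R * R) := by
      rw [mul_assoc, ← mul_assoc R, ← h3, mul_assoc, ← mul_assoc, h2]
    have e2 : X * ((X + X - 1) * R) + (X + X - 1) * R * X - (X + X - 1) * R = uL * R := by
      rw [mul_assoc, hRX, ← mul_assoc, ← mul_assoc, ← h2]
      simp only [mul_sub, sub_mul, mul_add, add_mul, one_mul, mul_one]
    have h6 : e * e - e = c + uL * R + uL * (R * R) := by
      rw [← e1, ← e2, hc]
      simp only [e, mul_add, add_mul]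
      abel
    have h5 : e * e - e = c + uL * (R * R + R) := by
      rw [h6, mul_add]
      abel
    rw [show R * R + R = -DL from eq_neg_of_add_eq_zero_left heqL, mul_neg, h4, add_neg_cancel, sub_eq_zero] at h5
    exact h5
  have hRs : D.Small (B + B + B) (R.map φ) := fun i j => by
    obtain ⟨a, ha, hae⟩ := hup (b' i j) (B + B + B)
    refine ⟨a, ha, ?_⟩
    rw [← hae, hR, hb']
    simp [ιM, φ]
  have hes : D.Small B (e.map φ - e') := by
    have h : e.map φ - e' = Δ + ((e' + e' - 1) * R.map φ + (Δ * R.map φ + Δ * R.map φ)) := by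
      simp only [e, hΔ, Matrix.map_add _ (map_add φ), Matrix.map_mul, Matrix.map_sub _ (map_sub φ),
        Matrix.map_one _ (map_zero φ) (map_one φ), Matrix.mul_sub, Matrix.sub_mul, Matrix.add_mul, Matrix.mul_add,
        Matrix.one_mul]
      abel
    rw [h]
    exact Small.add D (hX.mono D (by omega)) (Small.add D ((Small.bdd_mul D (hB₃ B (by omega)) hRs).mono D (by omega))
      (Small.add D ((Small.mul D hX hRs).mono D (by omega)) ((Small.mul D hX hRs).mono D (by omega))))
  set eb := e.map φ with heb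
  have hebb : eb * eb = eb := by rw [heb, ← Matrix.map_mul, he]
  let W := eb * e' + (1 - eb) * (1 - e')
  have hW : IsUnit W.det := D.isUnit_det' (Small.mem D (N := 0) (by
    have h : W - 1 = (eb - e') * (e' + e' - 1) := by
      simp only [W, Matrix.sub_mul, Matrix.mul_sub, Matrix.one_mul, Matrix.mul_one, Matrix.mul_add, he']
      abel
    rw [h]
    exact Small.mul_bdd D (hes.mono D (by omega : 0 + B ≤ B)) (hB₃ B (by omega))))
  have hWe : W * e' = eb * W := by
    simp only [W, Matrix.add_mul, Matrix.mul_add, Matrix.mul_assoc, he', Matrix.sub_mul, Matrix.mul_sub, Matrix.one_mul,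
      Matrix.mul_one]
    simp only [← Matrix.mul_assoc, hebb]
    abel
  refine ⟨e, e' * W⁻¹ * eb, eb * W * e', he, ?_, ?_⟩
  · calc e' * W⁻¹ * eb * (eb * W * e') = e' * (W⁻¹ * ((eb * eb) * W)) * e' := by simp only [Matrix.mul_assoc]
      _ = e' * e' * e' := by rw [hebb, ← hWe, ← Matrix.mul_assoc W⁻¹, nonsing_inv_mul _ hW, Matrix.one_mul]
      _ = e' := by rw [he', he']
  · calc eb * W * e' * (e' * W⁻¹ * eb) = eb * (W * (e' * e')) * W⁻¹ * eb := by simp only [Matrix.mul_assoc]
      _ = eb * (eb * W) * W⁻¹ * eb := by rw [he', hWe]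
      _ = eb := by
        rw [← Matrix.mul_assoc eb eb, hebb, Matrix.mul_assoc eb W, mul_nonsing_inv _ hW, Matrix.mul_one, hebb]

include hup hdown in
/-- Finitely generated projective `L'`-modules descend. -/
theorem exists_projective (M' : Type w) [AddCommGroup M'] [Module L' M'] [Module.Finite L' M']
    [Module.Projective L' M'] :
    ∃ (M : Type u) (_ : AddCommGroup M) (_ : Module L M), Module.Finite L M ∧ Module.Projective L M ∧
      Nonempty (L' ⊗[L] M ≃ₗ[L'] M') := by
  classical
  obtain ⟨n, q', i', -, -, hqi⟩ := Module.Finite.exists_comp_eq_id_of_projective L' M'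
  have hq' : ∀ z, q' (i' z) = z := fun z => DFunLike.congr_fun hqi z
  set e' := LinearMap.toMatrix' (i' ∘ₗ q') with he'
  obtain ⟨e, x, y, he, hxy, hyx⟩ := D.exists_idempotent_lift ι t hup hdown (e' := e') (frame_idem hq')
  let M := LinearMap.range e.mulVecLin
  let p : (Fin n → L) →ₗ[L] M := e.mulVecLin.rangeRestrict
  have hp : ∀ z : M, p (M.subtype z) = z := by
    rintro ⟨_, z, rfl⟩
    refine Subtype.ext ?_
    show e *ᵥ (e *ᵥ z) = e *ᵥ z
    rw [mulVec_mulVec, he]
  have hee : (LinearMap.toMatrix' (M.subtype ∘ₗ p)).map (algebraMap L L') = e.map (algebraMap L L') :=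
    congrArg (fun P => Matrix.map P (algebraMap L L')) (LinearMap.toMatrix'_toLin' e)
  have hev : ∀ z, e' *ᵥ z = i' (q' z) := fun z => LinearMap.toMatrix'_mulVec _ z
  refine ⟨M, inferInstance, inferInstance, Module.Finite.range _,
    Module.Projective.of_split M.subtype p (LinearMap.ext hp), ⟨LinearEquiv.ofLinear
      (q' ∘ₗ x.mulVecLin ∘ₗ coordB L' M.subtype) (retrB L' p ∘ₗ y.mulVecLin ∘ₗ i')
      (LinearMap.ext fun a => ?_) (LinearMap.ext fun z => ?_)⟩⟩
  · show q' (x *ᵥ coordB L' M.subtype (retrB L' p (y *ᵥ i' a))) = a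
    rw [coordB_retrB, hee, mulVec_mulVec, mulVec_mulVec, ← hyx,
      show x * (y * x) * y = (x * y) * (x * y) by simp only [Matrix.mul_assoc], hxy, frame_idem hq', hev, hq', hq']
  · show retrB L' p (y *ᵥ i' (q' (x *ᵥ coordB L' M.subtype z))) = z
    rw [← hev, mulVec_mulVec, mulVec_mulVec, ← hxy,
      show y * (x * y) * x = (y * x) * (y * x) by simp only [Matrix.mul_assoc], hyx, ← Matrix.map_mul, he, ← hee,
      ← coordB_retrB, retrB_coordB L' M.subtype p hp, retrB_coordB L' M.subtype p hp]

include hup hdown in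
/-- Idempotents descend uniquely. -/
theorem existsUnique_idempotent (e' : L') (he' : IsIdempotentElem e') :
    ∃! e : L, IsIdempotentElem e ∧ algebraMap L L' e = e' := by
  obtain ⟨e, x, y, he, hxy, hyx⟩ := D.exists_idempotent_lift ι t hup hdown
    (e' := Matrix.of fun (_ _ : Fin 1) => e') (Matrix.ext fun i j => by simp [Matrix.mul_apply, he'.eq])
  have h1 : IsIdempotentElem (e 0 0) := by
    simpa [IsIdempotentElem, Matrix.mul_apply] using congrFun (congrFun he 0) 0
  have h2 : algebraMap L L' (e 0 0) = e' := by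
    have a := congrFun (congrFun hxy 0) 0
    have b := congrFun (congrFun hyx 0) 0
    simp [Matrix.mul_apply] at a b
    rw [← b, mul_comm, a]
  exact ⟨e 0 0, ⟨h1, h2⟩, fun f ⟨hf, hf'⟩ => D.idempotent_ext hf h1 (hf'.trans h2.symm)⟩

end DenseData

end Groth.Agent.AffHorrocks
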