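/-
Dense data: `A[1/t] → Â[1/t]` and `R{t}[1/t] → R((t))`.
-/
import Groth.Agent.AffineHorrocks.DenseLift
import Groth.Agent.Hensel.PairEnvelopeProps
import Mathlib.RingTheory.AdicCompletion.Completeness
import Mathlib.RingTheory.AdicCompletion.Algebra
import Mathlib.RingTheory.LaurentSeries
import Mathlib.RingTheory.PowerSeries.NoZeroDivisors
import Mathlib.RingTheory.Idempotents

set_option autoImplicit false
set_option linter.style.haveILetI false
set_option backward.isDefEq.respectTransparency false

universe u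

noncomputable section

namespace Groth.Agent.AffHorrocks

open PowerSeries in
/-- Idempotent Laurent series are constant. -/
theorem idempotent_laurentSeries {R : Type u} [CommRing R] (f : LaurentSeries R) (hf : IsIdempotentElem f) :
    ∃ r : R, IsIdempotentElem r ∧ f = HahnSeries.C r := by
  classical
  let up : PowerSeries R →+* LaurentSeries R := HahnSeries.ofPowerSeries ℤ R
  obtain ⟨K, q, hq⟩ : ∃ (K : ℕ) (q : PowerSeries R), up (PowerSeries.X ^ K) * f = up q := by
    refine ⟨(-f.order).toNat, LaurentSeries.powerSeriesPart f *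
      PowerSeries.X ^ (((-f.order).toNat : ℤ) + f.order).toNat, ?_⟩
    simp only [up, map_mul]
    rw [LaurentSeries.ofPowerSeries_powerSeriesPart, HahnSeries.ofPowerSeries_X_pow, HahnSeries.ofPowerSeries_X_pow,
      mul_right_comm, HahnSeries.single_mul_single, one_mul,
      Int.toNat_of_nonneg (a := ((-f.order).toNat : ℤ) + f.order) (by omega)]
    rw [show -f.order + (((-f.order).toNat : ℤ) + f.order) = (((-f.order).toNat : ℕ) : ℤ) by omega]
  have hqq : q * q = PowerSeries.X ^ K * q := HahnSeries.ofPowerSeries_injective (Γ := ℤ) (by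
    show up (q * q) = up (PowerSeries.X ^ K * q)
    rw [map_mul, map_mul, ← hq, mul_mul_mul_comm, hf.eq, mul_assoc])
  set c := PowerSeries.coeff K q with hc
  have hp : ∀ (p : Ideal R), p.IsPrime → (c * c - c ∈ p) ∧ ∀ n, n ≠ K → PowerSeries.coeff n q ∈ p := by
    intro p hp
    let g := Ideal.Quotient.mk p
    have h := congrArg (PowerSeries.map g) hqq
    rw [map_mul, map_mul, map_pow, PowerSeries.map_X] at h
    rcases mul_eq_mul_right_iff.1 h with h' | h'
    · have hk : ∀ n, g (PowerSeries.coeff n q) = if n = K then 1 else 0 := fun n => by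
        rw [← PowerSeries.coeff_map, h', PowerSeries.coeff_X_pow]
      refine ⟨Ideal.Quotient.eq_zero_iff_mem.1 ?_, fun n hn => Ideal.Quotient.eq_zero_iff_mem.1 ?_⟩
      · show g (c * c - c) = 0
        rw [map_sub, map_mul, hc, hk, if_pos rfl, one_mul, sub_self]
      · show g _ = 0
        rw [hk, if_neg hn]
    · have hk : ∀ n, g (PowerSeries.coeff n q) = 0 := fun n => by rw [← PowerSeries.coeff_map, h', map_zero]
      refine ⟨Ideal.Quotient.eq_zero_iff_mem.1 ?_, fun n _ => Ideal.Quotient.eq_zero_iff_mem.1 (hk n)⟩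
      show g (c * c - c) = 0
      rw [map_sub, map_mul, hc, hk, mul_zero, sub_self]
  have hnil : ∀ {x : R}, (∀ p : Ideal R, p.IsPrime → x ∈ p) → x ∈ nilradical R := fun {x} h => by
    rw [nilradical_eq_sInf]; exact Submodule.mem_sInf.2 h
  obtain ⟨r, hr, hr'⟩ := exists_isIdempotentElem_eq_of_ker_isNilpotent (Ideal.Quotient.mk (nilradical R))
    (fun x hx => Ideal.Quotient.eq_zero_iff_mem.1 (RingHom.mem_ker.1 hx)) (Ideal.Quotient.mk _ c) ⟨c, rfl⟩ (by
      show _ * _ = _
      rw [← map_mul]
      exact Ideal.Quotient.eq.2 (hnil fun p hp' => (hp p hp').1))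
  refine ⟨r, hr, ?_⟩
  set q' := q - PowerSeries.C r * PowerSeries.X ^ K with hq'
  have hq'n : ∀ n, IsNilpotent (PowerSeries.coeff n q') := fun n => by
    refine mem_nilradical.1 ?_
    rw [hq', map_sub, PowerSeries.coeff_C_mul, PowerSeries.coeff_X_pow]
    split_ifs with hn
    · subst hn
      rw [mul_one]
      exact Ideal.Quotient.eq.1 hr'.symm
    · rw [mul_zero, sub_zero]
      exact hnil fun p hp' => (hp p hp').2 n hn
  obtain ⟨Q, hQ⟩ : (PowerSeries.X : PowerSeries R) ^ K ∣ q' - (PowerSeries.trunc K q' : Polynomial R) :=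
    PowerSeries.X_pow_dvd_iff.2 fun l hl => by simp [PowerSeries.coeff_trunc, hl]
  have hT : IsNilpotent (PowerSeries.trunc K q') := Polynomial.isNilpotent_iff.2 fun i => by
    rw [PowerSeries.coeff_trunc]
    split_ifs
    · exact hq'n i
    · exact IsNilpotent.zero
  set sK : LaurentSeries R := HahnSeries.single (-(K : ℤ)) 1
  have hsK : sK * up (PowerSeries.X ^ K) = 1 := by
    simp only [sK, up, HahnSeries.ofPowerSeries_X_pow, HahnSeries.single_mul_single, neg_add_cancel, one_mul]
    rfl
  set d := f - HahnSeries.C r with hd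
  have hdP : d = sK * up ((Polynomial.coeToPowerSeries.ringHom : Polynomial R →+* PowerSeries R) (PowerSeries.trunc K q')) +
      up Q := by
    have h1 : up q' = up (PowerSeries.X ^ K) * d := by
      rw [hq', map_sub, map_mul, ← hq, HahnSeries.ofPowerSeries_C, hd]; ring
    calc d = sK * up q' := by rw [h1, ← mul_assoc, hsK, one_mul]
      _ = _ := by
        conv_lhs => rw [sub_eq_iff_eq_add.1 hQ]
        rw [map_add, map_mul, mul_add, ← mul_assoc, hsK, one_mul, add_comm]
        rfl
  set P := sK * up ((Polynomial.coeToPowerSeries.ringHom : Polynomial R →+* PowerSeries R) (PowerSeries.trunc K q'))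
  have hP : IsNilpotent P := (Commute.all _ _).isNilpotent_mul_left ((hT.map _).map up)
  have hQ0 : IsNilpotent (PowerSeries.constantCoeff Q) := by
    have h1 := congrArg (PowerSeries.coeff K) hQ
    rw [PowerSeries.coeff_X_pow_mul', if_pos le_rfl, Nat.sub_self, map_sub, Polynomial.coeff_coe,
      PowerSeries.coeff_trunc, if_neg (lt_irrefl K), sub_zero, PowerSeries.coeff_zero_eq_constantCoeff] at h1
    rw [← h1]
    exact hq'n K
  have hu : IsUnit (1 - d * d) := by
    have h1 : IsUnit (up (1 - Q * Q)) := IsUnit.map up (PowerSeries.isUnit_iff_constantCoeff.2 (by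
      rw [map_sub, map_one, map_mul]
      exact ((Commute.all _ _).isNilpotent_mul_left hQ0).isUnit_one_sub))
    rw [hdP, show 1 - (P + up Q) * (P + up Q) = up (1 - Q * Q) + -(P * (P + 2 * up Q)) by
      rw [map_sub, map_one, map_mul]; ring]
    exact IsNilpotent.isUnit_add_left_of_commute ((Commute.all _ _).isNilpotent_mul_right hP).neg h1 (Commute.all _ _)
  refine sub_eq_zero.1 (hu.mul_left_cancel ?_)
  rw [mul_zero]
  have hrr : (HahnSeries.C r : LaurentSeries R) * HahnSeries.C r = HahnSeries.C r := by rw [← map_mul, hr.eq]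
  rw [hd]
  linear_combination (3 * HahnSeries.C r - (f + 1)) * hf.eq + ((HahnSeries.C r + 1) - 3 * f) * hrr

section Adic

variable {A : Type u} [CommRing A] (t : A)

/-- `Â[1/t]` -/
abbrev AdicAway : Type u := Localization.Away (algebraMap A (AdicCompletion (Ideal.span {t}) A) t)

/-- `Â → Â[1/t]` -/
abbrev toAdicAway : AdicCompletion (Ideal.span {t}) A →+* AdicAway t := algebraMap _ _

variable [Algebra (Localization.Away t) (AdicAway t)]
  (halg : algebraMap (Localization.Away t) (AdicAway t) =
    Localization.awayMap (algebraMap A (AdicCompletion (Ideal.span {t}) A)) t)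

include halg in
theorem adic_comm (a : A) : algebraMap (Localization.Away t) (AdicAway t) (algebraMap A (Localization.Away t) a) =
    toAdicAway t (algebraMap A _ a) := by
  rw [halg]
  exact IsLocalization.map_eq _ _

include halg in
theorem adic_down (l : Localization.Away t) (N : ℕ) (y : AdicCompletion (Ideal.span {t}) A)
    (h : algebraMap (Localization.Away t) (AdicAway t) l =
      toAdicAway t (algebraMap A (AdicCompletion (Ideal.span {t}) A) t) ^ N *
        toAdicAway t (algebraMap A (AdicCompletion (Ideal.span {t}) A) t * y)) :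
    ∃ b : A, l = algebraMap A (Localization.Away t) (t ^ (N + 1) * b) := by
  let th := algebraMap A (AdicCompletion (Ideal.span {t}) A) t
  obtain ⟨⟨a, s⟩, hs⟩ := IsLocalization.surj (Submonoid.powers t) l
  obtain ⟨k, hk⟩ := s.2
  have h1 : toAdicAway t (algebraMap A _ a) = toAdicAway t (th ^ (k + N + 1) * y) := by
    rw [← adic_comm t halg, ← hs, map_mul, h, adic_comm t halg, ← hk]
    simp only [map_mul, map_pow, th]
    ring
  obtain ⟨⟨_, m, rfl⟩, hm⟩ := IsLocalization.exists_of_eq (M := Submonoid.powers th) h1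
  have h2 : algebraMap A (AdicCompletion (Ideal.span {t}) A) (t ^ m * a) = th ^ (m + (k + N + 1)) * y := by
    rw [map_mul, map_pow, pow_add, mul_assoc]
    exact hm
  have h3 := congrArg (AdicCompletion.evalₐ (Ideal.span {t}) (m + (k + N + 1))) h2
  rw [map_mul (AdicCompletion.evalₐ _ _) (th ^ _), map_pow, AlgHom.commutes, AlgHom.commutes, Ideal.Quotient.algebraMap_eq,
    ← map_pow, Ideal.Quotient.eq_zero_iff_mem.2 (Ideal.pow_mem_pow (Ideal.mem_span_singleton_self t) _), zero_mul,
    Ideal.Quotient.eq_zero_iff_mem, Ideal.span_singleton_pow] at h3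
  obtain ⟨b, hb⟩ := Ideal.mem_span_singleton.1 h3
  refine ⟨b, ?_⟩
  have hu : IsUnit (algebraMap A (Localization.Away t) (t ^ m) * algebraMap A (Localization.Away t) s) := by
    rw [map_pow]
    exact ((IsLocalization.Away.algebraMap_isUnit t).pow m).mul (IsLocalization.map_units (Localization.Away t) s)
  refine hu.mul_right_cancel ?_
  calc l * (algebraMap A (Localization.Away t) (t ^ m) * algebraMap A (Localization.Away t) s) =
        algebraMap A (Localization.Away t) (t ^ m * a) := by rw [map_mul, ← hs]; ring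
    _ = _ := by rw [hb, ← hk, ← map_mul, ← map_mul]; congr 1; ring

include halg in
/-- `A[1/t] → Â[1/t]` -/
def adicDense (ht : t ∈ (⊥ : Ideal A).jacobson) : DenseData (Localization.Away t) (AdicAway t) where
  J := {z | ∃ y, z = toAdicAway t (algebraMap A (AdicCompletion (Ideal.span {t}) A) t * y)}
  τ := algebraMap A (Localization.Away t) t
  zero_mem := ⟨0, by simp⟩
  add_mem := fun ⟨p, hp⟩ ⟨q, hq⟩ => ⟨p + q, by rw [hp, hq, ← map_add, ← mul_add]⟩
  neg_mem := fun ⟨p, hp⟩ => ⟨-p, by rw [hp, mul_neg, ← map_neg]⟩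
  mul_mem := fun ⟨p, hp⟩ ⟨q, hq⟩ => ⟨p * (algebraMap A _ t * q), by rw [hp, hq, ← map_mul, mul_assoc]⟩
  tau_mul := fun ⟨p, hp⟩ => ⟨algebraMap A _ t * p, by rw [adic_comm t halg, hp, ← map_mul]⟩
  scale := fun z => by
    let th := algebraMap A (AdicCompletion (Ideal.span {t}) A) t
    obtain ⟨⟨a, s⟩, hs⟩ := IsLocalization.surj (Submonoid.powers th) z
    obtain ⟨k, hk⟩ := s.2
    exact ⟨k + 1, a, by rw [adic_comm t halg, map_mul, ← hs, ← hk]; simp only [map_pow, th]; ring⟩
  approx := fun z N => by
    let th := algebraMap A (AdicCompletion (Ideal.span {t}) A) t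
    have hfg : (Ideal.span {t}).FG := ⟨{t}, by simp⟩
    obtain ⟨⟨x, s⟩, hs⟩ := IsLocalization.surj (Submonoid.powers th) z
    obtain ⟨k, hk⟩ := s.2
    obtain ⟨a, ha⟩ := Submodule.Quotient.mk_surjective (Ideal.span {t} ^ (k + N + 1) • ⊤ : Submodule A A)
      (AdicCompletion.eval (Ideal.span {t}) A (k + N + 1) x)
    have h1 : algebraMap A (AdicCompletion (Ideal.span {t}) A) a - x ∈
        (AdicCompletion.eval (Ideal.span {t}) A (k + N + 1)).ker := by
      rw [LinearMap.mem_ker, map_sub, sub_eq_zero, ← ha]
      rfl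
    rw [← AdicCompletion.pow_smul_top_eq_ker_eval hfg, Ideal.span_singleton_pow,
      Submodule.ideal_span_singleton_smul, Submodule.mem_smul_pointwise_iff_exists] at h1
    obtain ⟨y, -, hy⟩ := h1
    rw [Algebra.smul_def, map_pow] at hy
    obtain ⟨v, hv⟩ := ((IsLocalization.Away.algebraMap_isUnit (S := Localization.Away t) t).pow k).exists_left_inv
    refine ⟨v * algebraMap A (Localization.Away t) a, toAdicAway t (th * y), ⟨y, rfl⟩,
      ((IsLocalization.Away.algebraMap_isUnit th).pow k).mul_left_cancel ?_⟩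
    have hv' : toAdicAway t th ^ k * algebraMap (Localization.Away t) (AdicAway t) v = 1 := by
      rw [← adic_comm t halg, ← map_pow, ← map_mul, mul_comm, hv, map_one]
    rw [mul_sub, map_mul, ← mul_assoc, hv', one_mul, adic_comm t halg, adic_comm t halg, mul_comm _ z,
      ← map_pow (toAdicAway t), show z * toAdicAway t (th ^ k) = toAdicAway t x by rw [← hs, ← hk], ← map_sub, ← hy]
    simp only [map_mul, map_pow, pow_add, pow_one, th]
    ring
  unit' := fun j ⟨y, hy⟩ => by
    haveI : IsAdicComplete ((Ideal.span {t}).map (algebraMap A (AdicCompletion (Ideal.span {t}) A)))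
        (AdicCompletion (Ideal.span {t}) A) :=
      (IsAdicComplete.map_algebraMap_iff _ _).mpr (AdicCompletion.isAdicComplete ⟨{t}, by simp⟩)
    rw [hy, ← map_one (toAdicAway t), ← map_add]
    refine IsUnit.map _ ?_
    rw [add_comm]
    exact Ideal.mem_jacobson_bot.1 (IsAdicComplete.le_jacobson_bot
      ((Ideal.span {t}).map (algebraMap A (AdicCompletion (Ideal.span {t}) A)))
      (Ideal.mem_map_of_mem _ (Ideal.mem_span_singleton_self t))) y
  unit := fun l ⟨y, hy⟩ => by
    obtain ⟨b, rfl⟩ := adic_down t halg l 0 y (by rw [pow_zero, one_mul]; exact hy)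
    rw [← map_one (algebraMap A (Localization.Away t)), ← map_add, add_comm, zero_add, pow_one]
    exact (Ideal.mem_jacobson_bot.1 ht b).map _

include halg in
theorem adicDense_up (ht : t ∈ (⊥ : Ideal A).jacobson) (a : A) (N : ℕ) : ∃ j ∈ (adicDense t halg ht).J,
    algebraMap (Localization.Away t) (AdicAway t) (algebraMap A (Localization.Away t) (t ^ (N + 1) * a)) =
      algebraMap (Localization.Away t) (AdicAway t) (adicDense t halg ht).τ ^ N * j :=
  ⟨toAdicAway t (algebraMap A _ t * algebraMap A _ a), ⟨_, rfl⟩, by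
    show _ = algebraMap (Localization.Away t) (AdicAway t) (algebraMap A (Localization.Away t) t) ^ N * _
    rw [adic_comm t halg, adic_comm t halg]
    simp only [map_mul, map_pow]
    ring⟩

include halg in
theorem adicDense_down (ht : t ∈ (⊥ : Ideal A).jacobson) (l : Localization.Away t) (N : ℕ)
    (h : ∃ j ∈ (adicDense t halg ht).J, algebraMap (Localization.Away t) (AdicAway t) l =
      algebraMap (Localization.Away t) (AdicAway t) (adicDense t halg ht).τ ^ N * j) :
    ∃ b : A, l = algebraMap A (Localization.Away t) (t ^ (N + 1) * b) := by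
  obtain ⟨_, ⟨y, rfl⟩, h⟩ := h
  exact adic_down t halg l N y (h.trans (by rw [show (adicDense t halg ht).τ = algebraMap A _ t from rfl, adic_comm t halg]))

end Adic

section Laurent

variable {R : Type u} [CommRing R] {B : Type u} [CommRing B] [Algebra (Polynomial R) B]
  (hB : Hens2.IsPairHenselization (Polynomial R) (Ideal.span {(Polynomial.X : Polynomial R)}) B)
  (ψ : B →ₐ[Polynomial R] PowerSeries R)
  {L' : Type u} [CommRing L'] [Algebra (Localization.Away (algebraMap (Polynomial R) B Polynomial.X)) L']
  (e : L' ≃+* LaurentSeries R)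
  (he : ∀ b : B, e (algebraMap (Localization.Away (algebraMap (Polynomial R) B Polynomial.X)) L'
    (algebraMap B (Localization.Away (algebraMap (Polynomial R) B Polynomial.X)) b)) = HahnSeries.ofPowerSeries ℤ R (ψ b))

theorem psi_algebraMap (ψ : B →ₐ[Polynomial R] PowerSeries R) (p : Polynomial R) :
    ψ (algebraMap (Polynomial R) B p) = (Polynomial.coeToPowerSeries.ringHom : Polynomial R →+* PowerSeries R) p := by
  rw [AlgHom.commutes]
  simp [PowerSeries.algebraMap_apply']

theorem psi_X (ψ : B →ₐ[Polynomial R] PowerSeries R) :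
    ψ (algebraMap (Polynomial R) B Polynomial.X) = PowerSeries.X := by
  rw [psi_algebraMap]; simp

include hB in
theorem henselian_X : HenselianRing B (Ideal.span {algebraMap (Polynomial R) B Polynomial.X}) := by
  have h := hB.1
  rwa [Ideal.map_span, Set.image_singleton] at h

include hB he in
theorem laurent_down (l : Localization.Away (algebraMap (Polynomial R) B Polynomial.X)) (N : ℕ) (q : PowerSeries R)
    (h : e (algebraMap _ L' l) = HahnSeries.ofPowerSeries ℤ R (PowerSeries.X ^ (N + 1) * q)) :
    ∃ b : B, l = algebraMap B _ (algebraMap (Polynomial R) B Polynomial.X ^ (N + 1) * b) := by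
  obtain ⟨⟨b, s⟩, hs⟩ := IsLocalization.surj (Submonoid.powers (algebraMap (Polynomial R) B Polynomial.X)) l
  obtain ⟨k, hk⟩ := s.2
  have h1 : ψ b = PowerSeries.X ^ (k + N + 1) * q := HahnSeries.ofPowerSeries_injective (Γ := ℤ) (by
    rw [← he, ← hs, map_mul, map_mul, h, he, ← hk, map_pow, psi_X, ← map_mul]
    congr 1
    ring)
  obtain ⟨p, hp⟩ := Hensel.pairHenselization_exists_sub_mem hB (k + N + 1) b
  rw [Ideal.span_singleton_pow, Ideal.map_span, Set.image_singleton, map_pow, Ideal.mem_span_singleton] at hp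
  obtain ⟨b', hb'⟩ := hp
  obtain ⟨p', hp'⟩ : Polynomial.X ^ (k + N + 1) ∣ p := by
    refine Polynomial.X_pow_dvd_iff.2 fun d hd => ?_
    have h2 : (PowerSeries.X : PowerSeries R) ^ (k + N + 1) ∣
        (Polynomial.coeToPowerSeries.ringHom : Polynomial R →+* PowerSeries R) p :=
      ⟨q - ψ b', by
        have h3 := congrArg ψ hb'
        rw [map_sub, psi_algebraMap, h1, map_mul, map_pow, psi_X] at h3
        linear_combination -h3⟩
    simpa using PowerSeries.X_pow_dvd_iff.1 h2 d hd
  refine ⟨algebraMap (Polynomial R) B p' + b', (IsLocalization.map_units (Localization.Away (algebraMap (Polynomial R) B Polynomial.X)) s).mul_right_cancel ?_⟩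
  show l * algebraMap B (Localization.Away (algebraMap (Polynomial R) B Polynomial.X)) (s : B) = algebraMap B (Localization.Away (algebraMap (Polynomial R) B Polynomial.X)) _ * algebraMap B (Localization.Away (algebraMap (Polynomial R) B Polynomial.X)) (s : B)
  rw [hs, ← map_mul, ← hk]
  refine congrArg (algebraMap B (Localization.Away (algebraMap (Polynomial R) B Polynomial.X))) ?_
  show b = _
  rw [sub_eq_iff_eq_add.1 hb', hp', map_mul, map_pow]
  ring

include hB he in
/-- `R{t}[1/t] → R((t))` -/
def laurentDense : DenseData (Localization.Away (algebraMap (Polynomial R) B Polynomial.X)) L' where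
  J := {z | ∃ q : PowerSeries R, e z = HahnSeries.ofPowerSeries ℤ R (PowerSeries.X * q)}
  τ := algebraMap B _ (algebraMap (Polynomial R) B Polynomial.X)
  zero_mem := ⟨0, by simp⟩
  add_mem := fun ⟨p, hp⟩ ⟨q, hq⟩ => ⟨p + q, by rw [map_add, hp, hq, ← map_add, ← mul_add]⟩
  neg_mem := fun ⟨p, hp⟩ => ⟨-p, by rw [map_neg, hp, mul_neg, ← map_neg]⟩
  mul_mem := fun ⟨p, hp⟩ ⟨q, hq⟩ => ⟨p * (PowerSeries.X * q), by rw [map_mul, hp, hq, ← map_mul, mul_assoc]⟩
  tau_mul := fun ⟨p, hp⟩ => ⟨PowerSeries.X * p, by rw [map_mul, he, psi_X, hp, ← map_mul]⟩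
  scale := fun z => by
    refine ⟨(-(e z).order).toNat + 1, LaurentSeries.powerSeriesPart (e z) *
      PowerSeries.X ^ (((-(e z).order).toNat : ℤ) + (e z).order).toNat, ?_⟩
    rw [map_mul, map_pow, he, psi_X]
    simp only [map_mul]
    rw [LaurentSeries.ofPowerSeries_powerSeriesPart, HahnSeries.ofPowerSeries_X_pow, pow_succ', ← map_pow,
      HahnSeries.ofPowerSeries_X_pow]
    have : HahnSeries.single (-(e z).order) (1 : R) * e z *
        HahnSeries.single (((((-(e z).order).toNat : ℤ) + (e z).order).toNat : ℕ) : ℤ) 1 =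
        HahnSeries.single ((-(e z).order).toNat : ℤ) 1 * e z := by
      rw [mul_right_comm, HahnSeries.single_mul_single, one_mul,
        Int.toNat_of_nonneg (a := ((-(e z).order).toNat : ℤ) + (e z).order) (by omega)]
      rw [show -(e z).order + (((-(e z).order).toNat : ℤ) + (e z).order) = (((-(e z).order).toNat : ℕ) : ℤ) by omega]
    rw [this, mul_assoc]
  approx := fun z N => by
    let up : PowerSeries R →+* LaurentSeries R := HahnSeries.ofPowerSeries ℤ R
    obtain ⟨K, q, hq⟩ : ∃ (K : ℕ) (q : PowerSeries R), up PowerSeries.X ^ K * e z = up q := by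
      refine ⟨(-(e z).order).toNat, LaurentSeries.powerSeriesPart (e z) *
        PowerSeries.X ^ (((-(e z).order).toNat : ℤ) + (e z).order).toNat, ?_⟩
      simp only [up, map_mul]
      rw [LaurentSeries.ofPowerSeries_powerSeriesPart, HahnSeries.ofPowerSeries_X_pow, ← map_pow,
        HahnSeries.ofPowerSeries_X_pow, mul_right_comm, HahnSeries.single_mul_single, one_mul,
        Int.toNat_of_nonneg (a := ((-(e z).order).toNat : ℤ) + (e z).order) (by omega)]
      rw [show -(e z).order + (((-(e z).order).toNat : ℤ) + (e z).order) = (((-(e z).order).toNat : ℕ) : ℤ) by omega]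
    obtain ⟨r, hr⟩ : (PowerSeries.X : PowerSeries R) ^ (K + N + 1) ∣
        (Polynomial.coeToPowerSeries.ringHom : Polynomial R →+* PowerSeries R) (PowerSeries.trunc (K + N + 1) q) - q :=
      PowerSeries.X_pow_dvd_iff.2 fun l hl => by simp [PowerSeries.coeff_trunc, hl]
    have hτu : IsUnit (algebraMap B (Localization.Away (algebraMap (Polynomial R) B Polynomial.X)) (algebraMap (Polynomial R) B Polynomial.X)) := IsLocalization.Away.algebraMap_isUnit (algebraMap (Polynomial R) B Polynomial.X)
    obtain ⟨v, hv⟩ := (hτu.pow K).exists_left_inv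
    refine ⟨v * algebraMap B (Localization.Away (algebraMap (Polynomial R) B Polynomial.X)) (algebraMap (Polynomial R) B (PowerSeries.trunc (K + N + 1) q)),
      e.symm (up (PowerSeries.X * r)), ⟨r, e.apply_symm_apply _⟩,
      ((hτu.map (algebraMap (Localization.Away (algebraMap (Polynomial R) B Polynomial.X)) L')).pow K).mul_left_cancel (e.injective ?_)⟩
    have hv' : algebraMap (Localization.Away (algebraMap (Polynomial R) B Polynomial.X)) L' (algebraMap B (Localization.Away (algebraMap (Polynomial R) B Polynomial.X)) (algebraMap (Polynomial R) B Polynomial.X)) ^ K * algebraMap (Localization.Away (algebraMap (Polynomial R) B Polynomial.X)) L' v = 1 := by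
      rw [← map_pow, ← map_mul, mul_comm, hv, map_one]
    rw [mul_sub, map_mul, ← mul_assoc, hv', one_mul, map_sub e, he, psi_algebraMap, map_mul e, map_mul e, map_mul e,
      map_pow e, map_pow e, he, psi_X, hq, ← map_sub up, hr, e.apply_symm_apply]
    simp only [map_mul, map_pow, pow_add, pow_one, up]
    ring
  unit' := fun j ⟨q, hq⟩ => by
    refine (MulEquiv.isUnit_map e).1 ?_
    rw [map_add, map_one, hq, ← map_one (HahnSeries.ofPowerSeries ℤ R), ← map_add]
    exact (PowerSeries.isUnit_iff_constantCoeff.2 (by simp)).map (HahnSeries.ofPowerSeries ℤ R)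
  unit := fun l ⟨q, hq⟩ => by
    obtain ⟨b, rfl⟩ := laurent_down hB ψ e he l 0 q (by rw [zero_add, pow_one]; exact hq)
    rw [zero_add, pow_one, ← map_one (algebraMap B _), ← map_add, add_comm]
    exact (Ideal.mem_jacobson_bot.1 ((henselian_X hB).jac (Ideal.mem_span_singleton_self _)) b).map _

include hB he in
theorem laurentDense_up (a : B) (N : ℕ) : ∃ j ∈ (laurentDense hB ψ e he).J,
    algebraMap (Localization.Away (algebraMap (Polynomial R) B Polynomial.X)) L'
        (algebraMap B _ (algebraMap (Polynomial R) B Polynomial.X ^ (N + 1) * a)) =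
      algebraMap _ L' (laurentDense hB ψ e he).τ ^ N * j := by
  refine ⟨algebraMap _ L' (algebraMap B (Localization.Away (algebraMap (Polynomial R) B Polynomial.X))
    (algebraMap (Polynomial R) B Polynomial.X * a)), ⟨ψ a, by rw [he, map_mul, psi_X]⟩, ?_⟩
  show _ = algebraMap _ L' (algebraMap B (Localization.Away (algebraMap (Polynomial R) B Polynomial.X))
    (algebraMap (Polynomial R) B Polynomial.X)) ^ N * _
  simp only [map_mul, map_pow]
  ring

include hB he in
theorem laurentDense_down (l : Localization.Away (algebraMap (Polynomial R) B Polynomial.X)) (N : ℕ)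
    (h : ∃ j ∈ (laurentDense hB ψ e he).J, algebraMap _ L' l = algebraMap _ L' (laurentDense hB ψ e he).τ ^ N * j) :
    ∃ b : B, l = algebraMap B _ (algebraMap (Polynomial R) B Polynomial.X ^ (N + 1) * b) := by
  obtain ⟨j, ⟨q, hq⟩, h⟩ := h
  refine laurent_down hB ψ e he l N q ?_
  rw [h, map_mul, map_pow, show (laurentDense hB ψ e he).τ = algebraMap B _ (algebraMap (Polynomial R) B Polynomial.X) from rfl,
    he, psi_X, hq, ← map_pow, ← map_mul]
  congr 1
  ring

end Laurent

end Groth.Agent.AffHorrocks
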